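import Groth.Agent.AlgSpD.SchemePushMain
import Groth.Agent.AlgSpCov.HomeoEt.Descend
import Groth.Agent.AlgSpCov.ThickTopo
import Groth.Agent.AlgSpB.IdealApprox.ThickScheme
import Groth.Agent.AlgSp.AffineMor
import Groth.Agent.S0431

/-!
# Data for the pushout of a thickening along an affine morphism of algebraic spaces
-/

universe u

open CategoryTheory CategoryTheory.Limits AlgebraicGeometry Opposite

set_option autoImplicit false
set_option backward.isDefEq.respectTransparency false
set_option backward.isDefEq.respectTransparency.types false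

namespace Groth.Agent.AlgSpD.ThickPush

open _root_.AlgSp
open Groth.Agent.AlgSpD

variable {S : Scheme.{u}}

/-- Sections of an etale chart extend uniquely along surjective closed immersions. -/
theorem exists_lift_thick {F : Sp S} {U A E : Over S} {u : (yon S).obj U ⟶ F} (hu : RepWith @Etale u)
    (i : A ⟶ E) [IsClosedImmersion i.left] [Surjective i.left] (z : (yon S).obj E ⟶ F) (m : A ⟶ U)
    (h : (yon S).map m ≫ u = (yon S).map i ≫ z) :
    ∃ g : E ⟶ U, (yon S).map g ≫ u = z ∧ i ≫ g = m := by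
  obtain ⟨W, w, ρ, sq⟩ := Groth.Agent.AlgSpB.exists_pullback_yon hu.1 z
  have : Etale ρ.left := hu.2 _ _ _ sq
  obtain ⟨σ, hσ⟩ := (yon S).map_surjective (sq.lift ((yon S).map m) ((yon S).map i) h)
  have hσ1 : σ ≫ w = m := (yon S).map_injective (by rw [Functor.map_comp, hσ, sq.lift_fst])
  have hσ2 : σ ≫ ρ = i := (yon S).map_injective (by rw [Functor.map_comp, hσ, sq.lift_snd])
  have hσ2' : σ.left ≫ ρ.left = i.left := congrArg CommaMorphism.left hσ2
  have : Surjective ρ.left :=
    have : Surjective (σ.left ≫ ρ.left) := hσ2' ▸ ‹Surjective i.left›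
    Surjective.of_comp σ.left ρ.left
  obtain ⟨O, hOs, hO⟩ := SchemePush.exists_section_open i.left ρ.left σ.left hσ2'
  let gO : (O : Scheme.{u}) ⟶ E.left := O.ι ≫ ρ.left
  have : Surjective gO := hOs
  have hiso : IsIso gO := by
    let d := pullback.diagonal gO
    let p₁ := pullback.fst gO gO
    let p₂ := pullback.snd gO gO
    let r := pullback.fst (p₁ ≫ gO) i.left
    let z₀ := pullback.snd (p₁ ≫ gO) i.left
    have : Surjective r := MorphismProperty.pullback_fst _ _ ‹Surjective i.left›
    have e1 : (r ≫ p₁) ≫ O.ι = z₀ ≫ σ.left :=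
      hO _ (r ≫ p₁) z₀ ((Category.assoc _ _ _).trans pullback.condition)
    have e2 : (r ≫ p₂) ≫ O.ι = z₀ ≫ σ.left := hO _ (r ≫ p₂) z₀ (by
      refine (Category.assoc _ _ _).trans ?_
      rw [show p₂ ≫ gO = p₁ ≫ gO from (pullback.condition (f := gO) (g := gO)).symm]
      exact pullback.condition)
    have e12 : r ≫ p₁ = r ≫ p₂ := (cancel_mono O.ι).1 (e1.trans e2.symm)
    have hrd : (r ≫ p₁) ≫ d = r := pullback.hom_ext
      (by rw [Category.assoc, pullback.diagonal_fst, Category.comp_id])
      (by rw [Category.assoc, pullback.diagonal_snd, Category.comp_id, e12])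
    have : Surjective d := by
      have : Surjective ((r ≫ p₁) ≫ d) := by rw [hrd]; infer_instance
      exact Surjective.of_comp (r ≫ p₁) d
    have : UniversallyInjective gO := (UniversallyInjective.iff_diagonal gO).2 this
    exact EtaleSite.isIso_of_etale_of_universallyInjective gO
  let s : E ⟶ W := Over.homMk (inv gO ≫ O.ι) (by
    rw [← Over.w ρ, Category.assoc, ← Category.assoc O.ι, show O.ι ≫ ρ.left = gO from rfl, IsIso.inv_hom_id_assoc])
  have hs : s ≫ ρ = 𝟙 E := Over.OverMorphism.ext
    ((Category.assoc _ _ _).trans (IsIso.inv_hom_id gO))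
  have his : i ≫ s = σ := Over.OverMorphism.ext (by
    have := hO A.left (i.left ≫ inv gO) (𝟙 _) (by simp [gO])
    simpa [s] using this)
  refine ⟨s ≫ w, ?_, by rw [← Category.assoc, his, hσ1]⟩
  rw [Functor.map_comp, Category.assoc, sq.w, ← Functor.map_comp_assoc, hs, CategoryTheory.Functor.map_id, Category.id_comp]

/-- Two maps to an etale chart agreeing after a surjection agree. -/
theorem hom_ext_thick {F : Sp S} {U A E : Over S} {u : (yon S).obj U ⟶ F} (hu : RepWith @Etale u)
    (i : A ⟶ E) [Surjective i.left] {a b : E ⟶ U} (h : (yon S).map a ≫ u = (yon S).map b ≫ u)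
    (hi : i ≫ a = i ≫ b) : a = b := by
  obtain ⟨W, w, ρ, sq⟩ := Groth.Agent.AlgSpB.exists_pullback_yon hu.1 ((yon S).map a ≫ u)
  have : Etale ρ.left := hu.2 _ _ _ sq
  obtain ⟨sa, hsa⟩ := (yon S).map_surjective (sq.lift ((yon S).map a) (𝟙 _) (Category.id_comp _).symm)
  obtain ⟨sb, hsb⟩ := (yon S).map_surjective (sq.lift ((yon S).map b) (𝟙 _) (by rw [Category.id_comp, h]))
  have a1 : sa ≫ w = a := (yon S).map_injective (by rw [Functor.map_comp, hsa, sq.lift_fst])
  have b1 : sb ≫ w = b := (yon S).map_injective (by rw [Functor.map_comp, hsb, sq.lift_fst])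
  have a2 : sa ≫ ρ = 𝟙 E := (yon S).map_injective (by rw [Functor.map_comp, hsa, sq.lift_snd, CategoryTheory.Functor.map_id])
  have b2 : sb ≫ ρ = 𝟙 E := (yon S).map_injective (by rw [Functor.map_comp, hsb, sq.lift_snd, CategoryTheory.Functor.map_id])
  have e : i ≫ sa = i ≫ sb := (yon S).map_injective (sq.hom_ext
    (by rw [← Functor.map_comp, ← Functor.map_comp]; simp only [Category.assoc, a1, b1, hi])
    (by rw [← Functor.map_comp, ← Functor.map_comp]; simp only [Category.assoc, a2, b2]))
  have : sa = sb := Over.OverMorphism.ext (EtaleSite.hom_ext_of_surjective ρ.left sa.left sb.left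
    ((congrArg CommaMorphism.left a2).trans (congrArg CommaMorphism.left b2).symm) i.left
    (congrArg CommaMorphism.left e))
  rw [← a1, ← b1, this]

/-- An etale scheme over the source of a thickening extends to one over the target. -/
theorem exists_descend_scheme {X X' : Space S} (t : X ⟶ X') (ht : IsThickMor t.hom) {U : Over S}
    (u : (yon S).obj U ⟶ X.obj) (hu : RepWith @Etale u) :
    ∃ (U' : Over S) (u' : (yon S).obj U' ⟶ X'.obj) (tU : U ⟶ U'),
      RepWith @Etale u' ∧ IsClosedImmersion tU.left ∧ Surjective tU.left ∧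
        IsPullback u ((yon S).map tU) t.hom u' := by
  have hc := AlgSpCov.ThickTopo.repWith_closed_of_thick ht
  have huc : RepWith @UniversallyInjective t.hom :=
    ⟨ht.1, fun _ _ g fst snd sq => have : IsClosedImmersion snd.left := (ht.2 g fst snd sq).1
      (inferInstance : UniversallyInjective snd.left)⟩
  have hf : AlgSpCov.HomeoEt.IntUH t.hom :=
    ⟨Groth.Agent.AlgSp.repWith_mono (Q := @IsIntegralHom) (fun g (hg : IsClosedImmersion g) => inferInstance) hc,
      (Groth.Agent.AlgSp.univInjective_tfae X.property t.hom).1.1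
        ((Groth.Agent.AlgSp.repWith_universallyInjective_iff X.property t.hom ht.1).1 huc),
      (AlgSpCov.ThickTopo.isHomeomorph_map X.property X'.property ht).bijective.surjective⟩
  obtain ⟨V', a, c, ha, sq⟩ := AlgSpCov.HomeoEt.exists_descend hf ⟨_, IsAlgSpace.yon_obj U⟩
    (ObjectProperty.homMk u) (isEtaleMor_of_repWith _ hu)
  have hct : IsThickMor c.hom := MorphismProperty.of_isPullback (P := RepWith thick) sq ht
  obtain ⟨U', ⟨e⟩⟩ := AlgSpB.IdealApprox.exists_iso_yon_of_thick c hct (Iso.refl _)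
  obtain ⟨tU, htU⟩ := (yon S).map_surjective (c.hom ≫ e.inv)
  have sq' : IsPullback u ((yon S).map tU) t.hom (e.hom ≫ a.hom) := by
    rw [htU]
    exact sq.of_iso (Iso.refl _) (Iso.refl _) e.symm (Iso.refl _) (by simp) (by simp) (by simp) (by simp)
  have hh : thick tU.left := ht.2 _ _ _ sq'
  exact ⟨U', e.hom ≫ a.hom, tU, ha e.hom (AlgSpB.repWith_of_isIso (P := @Etale) e.hom), hh.1, hh.2, sq'⟩

/-- An atlas of the square of a thickening and an affine morphism. -/
structure Atlas {X X' Y : Space S} (t : X ⟶ X') (f : X ⟶ Y) where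
  /-- the chart of `Y` -/
  V : Over S
  /-- the chart of `X` -/
  U : Over S
  /-- the chart of `X'` -/
  U' : Over S
  /-- the pushout of the charts -/
  P : Over S
  /-- the atlas of `Y` -/
  v : (yon S).obj V ⟶ Y.obj
  /-- the atlas of `X` -/
  uX : (yon S).obj U ⟶ X.obj
  /-- the atlas of `X'` -/
  u' : (yon S).obj U' ⟶ X'.obj
  /-- affine map -/
  fU : U ⟶ V
  /-- thickening -/
  tU : U ⟶ U'
  /-- first leg -/
  fU' : U' ⟶ P
  /-- second leg -/
  tV : V ⟶ P
  hv : RepWith @Etale v
  hvs : RepWith @Surjective v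
  hu' : RepWith @Etale u'
  hu's : RepWith @Surjective u'
  sqU : IsPullback uX ((yon S).map fU) f.hom v
  sqU' : IsPullback uX ((yon S).map tU) t.hom u'
  [tU_closed : IsClosedImmersion tU.left]
  [tU_surj : Surjective tU.left]
  [fU_affine : IsAffineHom fU.left]
  [tV_closed : IsClosedImmersion tV.left]
  [tV_surj : Surjective tV.left]
  po : IsPushout tU fU fU' tV
  pb : IsPullback tU fU fU' tV

attribute [instance] Atlas.tU_closed Atlas.tU_surj Atlas.fU_affine Atlas.tV_closed Atlas.tV_surj

/-- A thickening and an affine morphism have an atlas with any given chart of `Y`. -/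
theorem exists_atlas_of_chart {X X' Y : Space S} (t : X ⟶ X') (ht : IsThickMor t.hom) (f : X ⟶ Y)
    (hf : IsAffineMor f.hom) {V : Over S} (v : (yon S).obj V ⟶ Y.obj) (hv : RepWith @Etale v)
    (hvs : RepWith @Surjective v) : ∃ D : Atlas t f, ∃ e : D.V = V, (yon S).map (eqToHom e.symm) ≫ D.v = v := by
  have hfr := (Groth.Agent.AlgSp.isAffineMor_iff f.hom).1 hf
  obtain ⟨U, uX, fU, sqU⟩ : ∃ (U : Over S) (uX : (yon S).obj U ⟶ X.obj) (fU : U ⟶ V),
      IsPullback uX ((yon S).map fU) f.hom v := ⟨_, _, _, hfr.1.isPullback v⟩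
  have hfa : IsAffineHom fU.left := hfr.2 _ _ _ sqU
  have huX : RepWith @Etale uX := MorphismProperty.of_isPullback sqU.flip hv
  have huXs : RepWith @Surjective uX := MorphismProperty.of_isPullback sqU.flip hvs
  obtain ⟨U', u', tU, hu', h1, h2, sqU'⟩ := exists_descend_scheme t ht uX huX
  have hu's : RepWith @Surjective u' := by
    refine ⟨hu'.1, fun {T W} g fst snd sq => ⟨fun x => ?_⟩⟩
    obtain ⟨xX, hxX⟩ := (AlgSpCov.ThickTopo.isHomeomorph_map X.property X'.property ht).bijective.surjective
      (Points.ofPt g x)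
    obtain ⟨a, ha⟩ := Groth.Agent.AlgSpB.surjective_ofPt huXs xX
    have h3 : Points.ofPt u' (tU.left a) = Points.ofPt g x := by
      rw [← hxX, ← ha, ← AlgSpB.ofPt_map_comp, ← sqU'.w, Points.ofPt_eq_map_ofScheme, Points.ofPt_eq_map_ofScheme,
        Points.map_comp]
    obtain ⟨w, -, hw⟩ := (Groth.Agent.AlgSpB.ofPt_eq_ofPt_iff' sq _ x).1 h3
    exact ⟨w, hw⟩
  obtain ⟨P₀, a, b, hpo, hpb, hbc, hbs⟩ := Groth.Agent.S0431.result tU.left h2.surj fU.left
  let sP : P₀ ⟶ S := hpo.desc U'.hom V.hom (by rw [Over.w tU, Over.w fU])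
  let P : Over S := Over.mk sP
  let fU' : U' ⟶ P := Over.homMk a (hpo.inl_desc _ _ _)
  let tV : V ⟶ P := Over.homMk b (hpo.inr_desc _ _ _)
  have hw : tU ≫ fU' = fU ≫ tV := Over.OverMorphism.ext hpo.w
  refine ⟨{
    V := V, U := U, U' := U', P := P, v := v, uX := uX, u' := u', fU := fU, tU := tU, fU' := fU', tV := tV
    hv := hv, hvs := hvs, hu' := hu', hu's := hu's, sqU := sqU, sqU' := sqU'
    tV_closed := hbc, tV_surj := ⟨hbs⟩
    po := IsPushout.of_map (Over.forget S) hw hpo
    pb := IsPullback.of_map (Over.forget S) hw hpb }, rfl, by simp⟩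

/-- A thickening and an affine morphism have an atlas. -/
theorem exists_atlas {X X' Y : Space S} (t : X ⟶ X') (ht : IsThickMor t.hom) (f : X ⟶ Y)
    (hf : IsAffineMor f.hom) : Nonempty (Atlas t f) := by
  obtain ⟨V, v, hv, hvs⟩ := Y.property.atlas
  obtain ⟨D, -⟩ := exists_atlas_of_chart t ht f hf v hv hvs
  exact ⟨D⟩

end Groth.Agent.AlgSpD.ThickPush
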