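import Groth.Agent.AlgSpD.ThickPush.Spaces

/-!
# Flat spaces over a pushout of a thickening are pushouts of their restrictions
-/

universe u

open CategoryTheory CategoryTheory.Limits AlgebraicGeometry Opposite

set_option autoImplicit false
set_option backward.isDefEq.respectTransparency false
set_option backward.isDefEq.respectTransparency.types false

namespace Groth.Agent.AlgSpD.ThickPush

open _root_.AlgSp
open Groth.Agent.AlgSpD

variable {S : Scheme.{u}} {X X' Y : Space S} {t : X ⟶ X'} {f : X ⟶ Y} (D : Atlas t f)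

/-- Flat base changes of the pushout of the charts are pushouts. -/
theorem Atlas.isPushout_flat {Q : Over S} (q : Q ⟶ D.P) [Flat q.left] :
    ∃ (iQ : pullback (D.tU ≫ D.fU') q ⟶ pullback D.fU' q) (jQ : pullback (D.tU ≫ D.fU') q ⟶ pullback D.tV q),
      IsPushout iQ jQ (pullback.snd D.fU' q) (pullback.snd D.tV q) ∧
      iQ ≫ pullback.fst D.fU' q = pullback.fst (D.tU ≫ D.fU') q ≫ D.tU ∧
      jQ ≫ pullback.fst D.tV q = pullback.fst (D.tU ≫ D.fU') q ≫ D.fU ∧
      IsClosedImmersion iQ.left ∧ Surjective iQ.left ∧ IsAffineHom jQ.left := by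
  let iQ : pullback (D.tU ≫ D.fU') q ⟶ pullback D.fU' q :=
    pullback.lift (pullback.fst _ _ ≫ D.tU) (pullback.snd _ _) (by rw [Category.assoc, pullback.condition])
  let jQ : pullback (D.tU ≫ D.fU') q ⟶ pullback D.tV q :=
    pullback.lift (pullback.fst _ _ ≫ D.fU) (pullback.snd _ _) (by rw [Category.assoc, ← D.po.w, pullback.condition])
  have i1 : iQ ≫ pullback.fst D.fU' q = pullback.fst (D.tU ≫ D.fU') q ≫ D.tU := pullback.lift_fst _ _ _
  have j1 : jQ ≫ pullback.fst D.tV q = pullback.fst (D.tU ≫ D.fU') q ≫ D.fU := pullback.lift_fst _ _ _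
  have i2 : iQ ≫ pullback.snd D.fU' q = pullback.snd (D.tU ≫ D.fU') q := pullback.lift_snd _ _ _
  have j2 : jQ ≫ pullback.snd D.tV q = pullback.snd (D.tU ≫ D.fU') q := pullback.lift_snd _ _ _
  have si : IsPullback iQ (pullback.fst (D.tU ≫ D.fU') q) (pullback.fst D.fU' q) D.tU :=
    IsPullback.of_right (by rw [i2]; exact (IsPullback.of_hasPullback (D.tU ≫ D.fU') q).flip) i1
      (IsPullback.of_hasPullback D.fU' q).flip
  have sj : IsPullback jQ (pullback.fst (D.tU ≫ D.fU') q) (pullback.fst D.tV q) D.fU :=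
    IsPullback.of_right (by rw [j2, ← D.po.w]; exact (IsPullback.of_hasPullback (D.tU ≫ D.fU') q).flip) j1
      (IsPullback.of_hasPullback D.tV q).flip
  refine ⟨iQ, jQ, ?_, i1, j1, MorphismProperty.of_isPullback (si.map (Over.forget S)).flip D.tU_closed,
    MorphismProperty.of_isPullback (P := @Surjective) (si.map (Over.forget S)).flip D.tU_surj,
    MorphismProperty.of_isPullback (P := @IsAffineHom) (sj.map (Over.forget S)).flip D.fU_affine⟩
  obtain ⟨hb, ha⟩ := SchemePush.props_of_thick D.po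
  have sX := (IsPullback.of_hasPullback D.fU' q).map (Over.forget S)
  have sY := (IsPullback.of_hasPullback D.tV q).map (Over.forget S)
  have sZ := (IsPullback.of_hasPullback (D.tU ≫ D.fU') q).map (Over.forget S)
  have hP : IsPushout D.tU.left D.fU.left D.fU'.left D.tV.left := D.po.map (Over.forget S)
  refine IsPushout.of_map (Over.forget S) (i2.trans j2.symm) ?_
  refine Groth.Agent.PinchLib.StdRinged.isPushout_of_toSh ?_
  exact Groth.Agent.PinchLib.isPushout_flatBaseChange (fX := D.fU'.left) (fZ' := D.tV.left) (fX' := 𝟙 D.P.left)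
    hP.w.symm (Category.comp_id _) (Category.comp_id _) D.isPushout_toSh (g := q.left) sX sZ sY
    (eX' := q.left) (pX' := 𝟙 Q.left) (IsPullback.of_vert_isIso ⟨by simp⟩)
    (congrArg CommaMorphism.left i1) (congrArg CommaMorphism.left i2)
    (congrArg CommaMorphism.left j1) (congrArg CommaMorphism.left j2)
    sX.w.symm (Category.comp_id _) sY.w.symm (Category.comp_id _)

/-- Maps out of a flat scheme over the pushout are determined on the two parts. -/
theorem Atlas.hom_ext_flat {F : Sp S} (hd : Representable (Limits.diag F)) {Q : Over S} (q : Q ⟶ D.P) [Flat q.left]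
    (γ γ' : (yon S).obj Q ⟶ F)
    (hV : ∀ (T : Sp S) (l : T ⟶ (yon S).obj Q) (c : T ⟶ (yon S).obj D.V),
      l ≫ (yon S).map q = c ≫ (yon S).map D.tV → l ≫ γ = l ≫ γ')
    (hU : ∀ (T : Sp S) (l : T ⟶ (yon S).obj Q) (a : T ⟶ (yon S).obj D.U'),
      l ≫ (yon S).map q = a ≫ (yon S).map D.fU' → l ≫ γ = l ≫ γ') : γ = γ' := by
  obtain ⟨iQ, jQ, hpo, -⟩ := D.isPushout_flat q
  exact SchemePush.hom_ext_of_isPushout hd hpo γ γ'
    (hU _ _ ((yon S).map (pullback.fst D.fU' q))
      (by rw [← Functor.map_comp, ← Functor.map_comp, pullback.condition]))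
    (hV _ _ ((yon S).map (pullback.fst D.tV q))
      (by rw [← Functor.map_comp, ← Functor.map_comp, pullback.condition]))

include D in
/-- The counit of glueing at a flat space is an isomorphism. -/
theorem Atlas.isPushout_restrictions {Y' W' WY WX' WX : Space S} {f' : X' ⟶ Y'} {t' : Y ⟶ Y'}
    (hY' : IsPushout t f f' t') (w : W' ⟶ Y') (hw : LocP @Flat w.hom) (aY : WY ⟶ W')
    (bY : WY ⟶ Y) (hWY : IsPullback aY.hom bY.hom w.hom t'.hom) (aX' : WX' ⟶ W') (bX' : WX' ⟶ X')
    (hWX' : IsPullback aX'.hom bX'.hom w.hom f'.hom) (cY : WX ⟶ WY) (cX' : WX ⟶ WX') (bX : WX ⟶ X)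
    (hWX₁ : IsPullback cY.hom bX.hom bY.hom f.hom) (hWX₂ : IsPullback cX'.hom bX.hom bX'.hom t.hom)
    (hcomm : cY ≫ aY = cX' ≫ aX') : IsPushout cY cX' aY aX' := by
  obtain ⟨π, hπ, hπs, sV, sU⟩ := D.exists_chart hY'
  obtain ⟨W₀, a₀, ha₀, ha₀s⟩ := W'.property.atlas
  obtain ⟨W, q₀, g, sW⟩ : ∃ (W : Over S) (q : W ⟶ W₀) (g : W ⟶ D.P),
      IsPullback ((yon S).map q) ((yon S).map g) (a₀ ≫ w.hom) π := by
    obtain ⟨W, g, q, sW⟩ := Groth.Agent.AlgSpB.exists_pullback_yon hπ.1 (a₀ ≫ w.hom)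
    exact ⟨W, q, g, sW.flip⟩
  have hq : RepWith @Etale ((yon S).map q₀) := MorphismProperty.of_isPullback sW.flip hπ
  have hqs : RepWith @Surjective ((yon S).map q₀) := MorphismProperty.of_isPullback sW.flip hπs
  let ρ := (yon S).map q₀ ≫ a₀
  have hρ : RepWith @Etale ρ := MorphismProperty.comp_mem _ _ _ hq ha₀
  have hρs : RepWith @Surjective ρ := MorphismProperty.comp_mem _ _ _ hqs ha₀s
  have eρ : ρ ≫ w.hom = (yon S).map g ≫ π := by rw [Category.assoc, sW.w]
  have : Flat g.left := hw ρ π g hρ hπ eρ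
  have hlV : ∀ {T : Sp S} (l : T ⟶ (yon S).obj W) (c : T ⟶ (yon S).obj D.V),
      l ≫ (yon S).map g = c ≫ (yon S).map D.tV → (l ≫ ρ) ≫ w.hom = (c ≫ D.v) ≫ t'.hom := fun l c h => by
    rw [Category.assoc, eρ, reassoc_of% h, Category.assoc, sV.w]
  have hlU : ∀ {T : Sp S} (l : T ⟶ (yon S).obj W) (c : T ⟶ (yon S).obj D.U'),
      l ≫ (yon S).map g = c ≫ (yon S).map D.fU' → (l ≫ ρ) ≫ w.hom = (c ≫ D.u') ≫ f'.hom := fun l c h => by
    rw [Category.assoc, eρ, reassoc_of% h, Category.assoc, sU.w]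
  have : Sheaf.IsLocallySurjective ρ := Groth.Agent.AlgSp.isLocallySurjective_of_etale_surjective ρ hρ hρs
  have : Epi ρ := Sheaf.epi_of_isLocallySurjective ρ
  refine ⟨⟨hcomm⟩, ⟨?_⟩⟩
  have hdesc : ∀ s : PushoutCocone cY cX', ∃ γ : W'.obj ⟶ s.pt.obj, aY.hom ≫ γ = s.inl.hom ∧
      aX'.hom ≫ γ = s.inr.hom := by
    intro s
    have hs : cY.hom ≫ s.inl.hom = cX'.hom ≫ s.inr.hom := congrArg (fun k => k.hom) s.condition
    obtain ⟨iQ, jQ, hpo, i1, j1, _, _, _⟩ := D.isPushout_flat g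
    have sWV := (IsPullback.of_hasPullback D.tV g).map (yon S)
    have sWU := (IsPullback.of_hasPullback D.fU' g).map (yon S)
    let lY := hWY.lift _ _ (hlV _ _ sWV.w.symm)
    let lX' := hWX'.lift _ _ (hlU _ _ sWU.w.symm)
    let lX := hWX₁.lift ((yon S).map jQ ≫ lY) ((yon S).map (pullback.fst (D.tU ≫ D.fU') g) ≫ D.uX) (by
      rw [Category.assoc, Category.assoc, hWY.lift_snd, ← Functor.map_comp_assoc, j1, Functor.map_comp,
        Category.assoc, ← D.sqU.w])
    have hX' : (yon S).map iQ ≫ lX' = lX ≫ cX'.hom := by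
      refine hWX'.hom_ext ?_ ?_
      · have e : cX'.hom ≫ aX'.hom = cY.hom ≫ aY.hom := (congrArg (fun k => k.hom) hcomm).symm
        rw [Category.assoc, hWX'.lift_fst, Category.assoc, e, reassoc_of% hWX₁.lift_fst, Category.assoc,
          hWY.lift_fst, ← Category.assoc, ← Functor.map_comp, hpo.w, Functor.map_comp, Category.assoc]
      · rw [Category.assoc, hWX'.lift_snd, Category.assoc, hWX₂.w, reassoc_of% hWX₁.lift_snd]
        simp only [Category.assoc]
        rw [D.sqU'.w, ← Functor.map_comp_assoc, ← Functor.map_comp_assoc, i1]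
    obtain ⟨γ₀, g1, g2⟩ := (SchemePush.isPushout_ofScheme_of_thick hpo).exists_desc (W := s.pt)
      (ObjectProperty.homMk (lX' ≫ s.inr.hom)) (ObjectProperty.homMk (lY ≫ s.inl.hom))
      (ObjectProperty.hom_ext _ (by
        change (yon S).map iQ ≫ lX' ≫ s.inr.hom = (yon S).map jQ ≫ lY ≫ s.inl.hom
        rw [reassoc_of% hX', ← hs, reassoc_of% hWX₁.lift_fst, Category.assoc]))
    have g1' : (yon S).map (pullback.snd D.fU' g) ≫ γ₀.hom = lX' ≫ s.inr.hom := congrArg (fun k => k.hom) g1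
    have g2' : (yon S).map (pullback.snd D.tV g) ≫ γ₀.hom = lY ≫ s.inl.hom := congrArg (fun k => k.hom) g2
    have hV : ∀ {T : Sp S} (l : T ⟶ (yon S).obj W) (c : T ⟶ (yon S).obj D.V)
        (h : l ≫ (yon S).map g = c ≫ (yon S).map D.tV) (x : T ⟶ WY.obj), x ≫ aY.hom = l ≫ ρ →
        x ≫ bY.hom = c ≫ D.v → l ≫ γ₀.hom = x ≫ s.inl.hom := by
      intro T l c h x hx1 hx2
      let k := sWV.lift c l h.symm
      have k1 : k ≫ (yon S).map (pullback.fst D.tV g) = c := sWV.lift_fst _ _ _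
      have k2 : k ≫ (yon S).map (pullback.snd D.tV g) = l := sWV.lift_snd _ _ _
      have : k ≫ lY = x := hWY.hom_ext
        (by rw [Category.assoc, hWY.lift_fst, hx1, reassoc_of% k2])
        (by rw [Category.assoc, hWY.lift_snd, hx2, reassoc_of% k1])
      rw [← k2, Category.assoc, g2', reassoc_of% this]
    have hU : ∀ {T : Sp S} (l : T ⟶ (yon S).obj W) (c : T ⟶ (yon S).obj D.U')
        (h : l ≫ (yon S).map g = c ≫ (yon S).map D.fU') (x : T ⟶ WX'.obj), x ≫ aX'.hom = l ≫ ρ →
        x ≫ bX'.hom = c ≫ D.u' → l ≫ γ₀.hom = x ≫ s.inr.hom := by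
      intro T l c h x hx1 hx2
      let k := sWU.lift c l h.symm
      have k1 : k ≫ (yon S).map (pullback.fst D.fU' g) = c := sWU.lift_fst _ _ _
      have k2 : k ≫ (yon S).map (pullback.snd D.fU' g) = l := sWU.lift_snd _ _ _
      have : k ≫ lX' = x := hWX'.hom_ext
        (by rw [Category.assoc, hWX'.lift_fst, hx1, reassoc_of% k2])
        (by rw [Category.assoc, hWX'.lift_snd, hx2, reassoc_of% k1])
      rw [← k2, Category.assoc, g1', reassoc_of% this]
    obtain ⟨R, r₁, r₂, sR⟩ := Groth.Agent.AlgSpB.exists_pullback_yon hρ.1 ρ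
    have hr₁ : Etale r₁.left := hρ.2 _ _ _ sR.flip
    have : Flat (r₁ ≫ g).left := by rw [Over.comp_left]; infer_instance
    have hr : ∀ {T : Sp S} (l : T ⟶ (yon S).obj R),
        (l ≫ (yon S).map r₂ ≫ (yon S).map g) ≫ π = (l ≫ (yon S).map (r₁ ≫ g)) ≫ π := fun l => by
      simp only [Category.assoc, Functor.map_comp, ← eρ, reassoc_of% sR.w]
    have hR : (yon S).map r₁ ≫ γ₀.hom = (yon S).map r₂ ≫ γ₀.hom := by
      refine D.hom_ext_flat s.pt.property.diag (r₁ ≫ g) _ _ (fun T l c h => ?_) (fun T l c h => ?_)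
      · let c₂ := sV.lift (c ≫ D.v) (l ≫ (yon S).map r₂ ≫ (yon S).map g) (by
          rw [hr l, h, Category.assoc, sV.w, Category.assoc])
        let x := hWY.lift ((l ≫ (yon S).map r₁) ≫ ρ) (c ≫ D.v) (hlV _ c (by
          rw [← h, Functor.map_comp, Category.assoc]))
        rw [← Category.assoc, ← Category.assoc,
          hV _ c (by rw [← h, Functor.map_comp, Category.assoc]) x (hWY.lift_fst _ _ _) (hWY.lift_snd _ _ _),
          hV _ c₂ (by rw [sV.lift_snd, Category.assoc]) x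
            ((hWY.lift_fst _ _ _).trans (by rw [Category.assoc, sR.w, Category.assoc]))
            ((hWY.lift_snd _ _ _).trans (sV.lift_fst _ _ _).symm)]
      · let c₂ := sU.lift (c ≫ D.u') (l ≫ (yon S).map r₂ ≫ (yon S).map g) (by
          rw [hr l, h, Category.assoc, sU.w, Category.assoc])
        let x := hWX'.lift ((l ≫ (yon S).map r₁) ≫ ρ) (c ≫ D.u') (hlU _ c (by
          rw [← h, Functor.map_comp, Category.assoc]))
        rw [← Category.assoc, ← Category.assoc,
          hU _ c (by rw [← h, Functor.map_comp, Category.assoc]) x (hWX'.lift_fst _ _ _) (hWX'.lift_snd _ _ _),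
          hU _ c₂ (by rw [sU.lift_snd, Category.assoc]) x
            ((hWX'.lift_fst _ _ _).trans (by rw [Category.assoc, sR.w, Category.assoc]))
            ((hWX'.lift_snd _ _ _).trans (sU.lift_fst _ _ _).symm)]
    obtain ⟨cρ⟩ := Groth.Agent.AlgSp.isColimit_of_isPullback ρ sR
    obtain ⟨γ, hγ⟩ : ∃ γ : W'.obj ⟶ s.pt.obj, ρ ≫ γ = γ₀.hom :=
      ⟨Cofork.IsColimit.desc cρ γ₀.hom hR, Cofork.IsColimit.π_desc' cρ γ₀.hom hR⟩
    refine ⟨γ, ?_, ?_⟩
    · let p := pullback.fst aY.hom ρ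
      let e := pullback.snd aY.hom ρ
      have he : p ≫ aY.hom = e ≫ ρ := pullback.condition
      have := Groth.Agent.AlgSp.isLocallySurjective_of_etale_surjective p
        (MorphismProperty.of_isPullback (IsPullback.of_hasPullback aY.hom ρ).flip hρ)
        (MorphismProperty.of_isPullback (IsPullback.of_hasPullback aY.hom ρ).flip hρs)
      have : Epi p := Sheaf.epi_of_isLocallySurjective p
      let c := sV.lift (p ≫ bY.hom) (e ≫ (yon S).map g) (by
        rw [Category.assoc, ← hWY.w, reassoc_of% he, eρ, Category.assoc])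
      rw [← cancel_epi p, reassoc_of% he, hγ,
        hV e c (sV.lift_snd _ _ _).symm p he (sV.lift_fst _ _ _).symm]
    · let p := pullback.fst aX'.hom ρ
      let e := pullback.snd aX'.hom ρ
      have he : p ≫ aX'.hom = e ≫ ρ := pullback.condition
      have := Groth.Agent.AlgSp.isLocallySurjective_of_etale_surjective p
        (MorphismProperty.of_isPullback (IsPullback.of_hasPullback aX'.hom ρ).flip hρ)
        (MorphismProperty.of_isPullback (IsPullback.of_hasPullback aX'.hom ρ).flip hρs)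
      have : Epi p := Sheaf.epi_of_isLocallySurjective p
      let c := sU.lift (p ≫ bX'.hom) (e ≫ (yon S).map g) (by
        rw [Category.assoc, ← hWX'.w, reassoc_of% he, eρ, Category.assoc])
      rw [← cancel_epi p, reassoc_of% he, hγ,
        hU e c (sU.lift_snd _ _ _).symm p he (sU.lift_fst _ _ _).symm]
  choose γ hγ using hdesc
  refine PushoutCocone.IsColimit.mk _ (fun s => ObjectProperty.homMk (γ s))
    (fun s => ObjectProperty.hom_ext _ (hγ s).1) (fun s => ObjectProperty.hom_ext _ (hγ s).2)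
    fun s m h1 h2 => ObjectProperty.hom_ext _ ?_
  have h1' : aY.hom ≫ m.hom = s.inl.hom := congrArg (fun k => k.hom) h1
  have h2' : aX'.hom ≫ m.hom = s.inr.hom := congrArg (fun k => k.hom) h2
  refine (cancel_epi ρ).1 (D.hom_ext_flat s.pt.property.diag g _ _ (fun T l c h => ?_) (fun T l c h => ?_))
  · change l ≫ ρ ≫ m.hom = l ≫ ρ ≫ γ s
    rw [← Category.assoc l ρ, ← Category.assoc l ρ, ← hWY.lift_fst _ _ (hlV l c h)]
    simp only [Category.assoc]
    rw [h1', (hγ s).1]
  · change l ≫ ρ ≫ m.hom = l ≫ ρ ≫ γ s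
    rw [← Category.assoc l ρ, ← Category.assoc l ρ, ← hWX'.lift_fst _ _ (hlU l c h)]
    simp only [Category.assoc]
    rw [h2', (hγ s).2]

end Groth.Agent.AlgSpD.ThickPush
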