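import Groth.Agent.PinchLib.SchemePushout
import Groth.Agent.PinchLib.BaseChange
import Groth.Agent.S6900
import Mathlib.AlgebraicGeometry.Morphisms.Smooth
import Mathlib.AlgebraicGeometry.Morphisms.Etale

/-!
# Morphisms between pushouts of schemes with cartesian sides
-/

universe u

open CategoryTheory CategoryTheory.Limits AlgebraicGeometry TensorProduct
open Groth.Agent.PinchLib

set_option autoImplicit false
set_option backward.isDefEq.respectTransparency false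
set_option backward.isDefEq.respectTransparency.types false

set_option linter.style.haveILetI false
set_option linter.unusedVariables false

namespace Groth.Agent.AlgSpD.ThickPush

open EtAlg in
/-- Glueing algebras recovers both base changes. -/
theorem isPushout_glue (B' B A' A : Type u) [CommRing B'] [CommRing B] [CommRing A'] [CommRing A]
    [Algebra B' B] [Algebra B' A'] [Algebra B A] [Algebra A' A] [Algebra B' A] [IsScalarTower B' B A] [IsScalarTower B' A' A]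
    (hsq : EtMil.IsFibreSquare B' B A' A)
    (D' D C' C : Type u) [CommRing D'] [CommRing D] [CommRing C'] [CommRing C]
    [Algebra D' D] [Algebra D' C'] [Algebra D C] [Algebra C' C] [Algebra D' C] [IsScalarTower D' D C] [IsScalarTower D' C' C]
    (hsq' : EtMil.IsFibreSquare D' D C' C)
    [Algebra B' D'] [Algebra B D] [Algebra A' C'] [Algebra A C]
    [Algebra B' D] [IsScalarTower B' B D] [IsScalarTower B' D' D]
    [Algebra B' C'] [IsScalarTower B' A' C'] [IsScalarTower B' D' C']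
    [Algebra B C] [IsScalarTower B A C] [IsScalarTower B D C]
    [Algebra A' C] [IsScalarTower A' A C] [IsScalarTower A' C' C]
    [Algebra.IsPushout B D A C] [Algebra.IsPushout A' C' A C] :
    Algebra.IsPushout B' B D' D ∧ Algebra.IsPushout B' A' D' C' := by
  haveI : Algebra.IsPushout B A D C := Algebra.IsPushout.symm inferInstance
  haveI : Algebra.IsPushout A' A C' C := Algebra.IsPushout.symm inferInstance
  let eD : A ⊗[B] D ≃ₗ[A] C := IsBaseChange.equiv (Algebra.IsPushout.out (R := B) (S := A) (R' := D) (S' := C))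
  let eC : A ⊗[A'] C' ≃ₗ[A] C := IsBaseChange.equiv (Algebra.IsPushout.out (R := A') (S := A) (R' := C') (S' := C))
  let φ : A ⊗[B] D ≃ₗ[A] A ⊗[A'] C' := eD ≪≫ₗ eC.symm
  have hmem : ∀ x : D × C', x ∈ EtMil.glue B' φ ↔ algebraMap D C x.1 = algebraMap C' C x.2 := by
    intro x
    rw [Groth.Agent.EtMilLib.mem_glue]
    simp only [φ, LinearEquiv.trans_apply]
    rw [LinearEquiv.symm_apply_eq]
    simp [eD, eC, IsBaseChange.equiv_tmul]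
  let f : D' →ₗ[B'] EtMil.glue B' φ :=
    ((IsScalarTower.toAlgHom B' D' D).toLinearMap.prod (IsScalarTower.toAlgHom B' D' C').toLinearMap).codRestrict _
      fun d => (hmem _).mpr ((IsScalarTower.algebraMap_apply D' D C d).symm.trans (IsScalarTower.algebraMap_apply D' C' C d))
  have hf : Function.Bijective f := by
    refine ⟨fun x y hxy => ?_, fun ⟨x, hx⟩ => ?_⟩
    · have h := congrArg Subtype.val hxy
      exact Groth.Agent.EtMilLib.eq_of_maps_eq hsq' (congrArg Prod.fst h) (congrArg Prod.snd h)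
    · obtain ⟨d, ⟨h1, h2⟩, -⟩ := hsq'.2 x.1 x.2 ((hmem x).mp hx)
      exact ⟨d, Subtype.ext (Prod.ext h1 h2)⟩
  let e := LinearEquiv.ofBijective f hf
  exact ⟨⟨IsBaseChange.of_equiv
    (TensorProduct.AlgebraTensorModule.congr (LinearEquiv.refl B B) e ≪≫ₗ LinearEquiv.ofBijective _
      (Groth.Agent.EtMilLib.liftBaseChange_glueFst_bijective hsq φ)) fun d => by simp [e, f, EtMil.glueFst]⟩,
    ⟨IsBaseChange.of_equiv
    (TensorProduct.AlgebraTensorModule.congr (LinearEquiv.refl A' A') e ≪≫ₗ LinearEquiv.ofBijective _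
      (Groth.Agent.EtMilLib.liftBaseChange_glueSnd_bijective hsq φ)) fun d => by simp [e, f, EtMil.glueSnd]⟩⟩

/-- Preimages along a commutative square. -/
lemma le_preimage_of_w {A' A B' B : Scheme.{u}} {k' : A' ⟶ B'} {h : B' ⟶ B} {g : A' ⟶ A} {k : A ⟶ B}
    (w : k' ≫ h = g ≫ k) {W : B.Opens} {W' : B'.Opens} (e : W' ≤ h ⁻¹ᵁ W) : k' ⁻¹ᵁ W' ≤ g ⁻¹ᵁ (k ⁻¹ᵁ W) := by
  rw [← Scheme.Hom.comp_preimage, ← w, Scheme.Hom.comp_preimage]
  exact k'.preimage_mono e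

theorem stab_lft : RingHom.StableUnderCompositionWithLocalizationAwaySource @RingHom.FiniteType :=
  (RingHom.finiteType_stableUnderComposition.stableUnderCompositionWithLocalizationAway
    RingHom.finiteType_holdsForLocalizationAway).1

theorem stab_flat : RingHom.StableUnderCompositionWithLocalizationAwaySource @RingHom.Flat :=
  (RingHom.Flat.stableUnderComposition.stableUnderCompositionWithLocalizationAway
    RingHom.Flat.holdsForLocalizationAway).1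

theorem stab_lfp : RingHom.StableUnderCompositionWithLocalizationAwaySource @RingHom.FinitePresentation :=
  (RingHom.finitePresentation_stableUnderComposition.stableUnderCompositionWithLocalizationAway
    RingHom.finitePresentation_holdsForLocalizationAway).1

theorem stab_smooth : RingHom.StableUnderCompositionWithLocalizationAwaySource @RingHom.Smooth :=
  (RingHom.Smooth.stableUnderComposition.stableUnderCompositionWithLocalizationAway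
    RingHom.Smooth.holdsForLocalizationAway).1

theorem stab_etale : RingHom.StableUnderCompositionWithLocalizationAwaySource @RingHom.Etale :=
  (RingHom.Etale.stableUnderComposition.stableUnderCompositionWithLocalizationAway
    (fun _ _ _ _ _ r _ => RingHom.etale_algebraMap.2 (Algebra.Etale.of_isLocalizationAway r))).1

variable {Z X Y P Z' X' Y' P' : Scheme.{u}} {i : Z ⟶ X} {j : Z ⟶ Y} {a : X ⟶ P} {b : Y ⟶ P}
  {i' : Z' ⟶ X'} {j' : Z' ⟶ Y'} {a' : X' ⟶ P'} {b' : Y' ⟶ P'}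
  {gZ : Z' ⟶ Z} {gX : X' ⟶ X} {gY : Y' ⟶ Y} {h : P' ⟶ P}
  [IsClosedImmersion i] [IsClosedImmersion i'] [IsAffineHom a] [IsAffineHom a'] [IsAffineHom b] [IsAffineHom b']
  (hD : IsPushout (toSh.map i) (toSh.map j) (toSh.map a) (toSh.map b))
  (hE : IsPushout (toSh.map i') (toSh.map j') (toSh.map a') (toSh.map b'))
  (hX : IsPullback i' gZ gX i) (hY : IsPullback j' gZ gY j) (ha : a' ≫ h = gX ≫ a) (hb : b' ≫ h = gY ≫ b)

include hD hE hX hY ha hb in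
/-- The six affine pieces over a pair of affine opens. -/
theorem piece {W : P.Opens} (hW : IsAffineOpen W) {W' : P'.Opens} (hW' : IsAffineOpen W') (e : W' ≤ h ⁻¹ᵁ W) :
    let ψ := (h.appLE W W' e).hom
    let ψY := (gY.appLE (b ⁻¹ᵁ W) (b' ⁻¹ᵁ W') (le_preimage_of_w hb e)).hom
    let ψX := (gX.appLE (a ⁻¹ᵁ W) (a' ⁻¹ᵁ W') (le_preimage_of_w ha e)).hom
    IsPushout (h.appLE W W' e) (b.appLE W (b ⁻¹ᵁ W) le_rfl) (b'.appLE W' (b' ⁻¹ᵁ W') le_rfl)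
      (gY.appLE (b ⁻¹ᵁ W) (b' ⁻¹ᵁ W') (le_preimage_of_w hb e)) ∧
    IsPushout (h.appLE W W' e) (a.appLE W (a ⁻¹ᵁ W) le_rfl) (a'.appLE W' (a' ⁻¹ᵁ W') le_rfl)
      (gX.appLE (a ⁻¹ᵁ W) (a' ⁻¹ᵁ W') (le_preimage_of_w ha e)) ∧
    (ψ.FiniteType ↔ ψY.FiniteType ∧ ψX.FiniteType) ∧
    (ψ.Flat ↔ ψY.Flat ∧ ψX.Flat) ∧
    (ψ.Flat ∧ ψ.FinitePresentation ↔ (ψY.Flat ∧ ψY.FinitePresentation) ∧ (ψX.Flat ∧ ψX.FinitePresentation)) ∧
    (ψ.Smooth ↔ ψY.Smooth ∧ ψX.Smooth) ∧ (ψ.Etale ↔ ψY.Etale ∧ ψX.Etale) := by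
  intro ψ ψY ψX
  let Z₀ := i ⁻¹ᵁ a ⁻¹ᵁ W
  let Z₁ := i' ⁻¹ᵁ a' ⁻¹ᵁ W'
  have eY : b' ⁻¹ᵁ W' ≤ gY ⁻¹ᵁ (b ⁻¹ᵁ W) := le_preimage_of_w hb e
  have eX : a' ⁻¹ᵁ W' ≤ gX ⁻¹ᵁ (a ⁻¹ᵁ W) := le_preimage_of_w ha e
  have eZ : Z₁ ≤ gZ ⁻¹ᵁ Z₀ := le_preimage_of_w hX.w eX
  have eD : Z₀ ≤ j ⁻¹ᵁ (b ⁻¹ᵁ W) := (preimage_eq hD W).le
  have eE : Z₁ ≤ j' ⁻¹ᵁ (b' ⁻¹ᵁ W') := (preimage_eq hE W').le
  letI iBB := (b.appLE W (b ⁻¹ᵁ W) le_rfl).hom.toAlgebra
  letI iBA := (a.appLE W (a ⁻¹ᵁ W) le_rfl).hom.toAlgebra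
  letI iB0 := (j.appLE (b ⁻¹ᵁ W) Z₀ eD).hom.toAlgebra
  letI iA0 := (i.appLE (a ⁻¹ᵁ W) Z₀ le_rfl).hom.toAlgebra
  letI iW0 := ((i ≫ a).appLE W Z₀ le_rfl).hom.toAlgebra
  obtain ⟨t1, t2, hsq⟩ := isFibreSquare hD W (hW.preimage a)
  letI iDD := (b'.appLE W' (b' ⁻¹ᵁ W') le_rfl).hom.toAlgebra
  letI iDC := (a'.appLE W' (a' ⁻¹ᵁ W') le_rfl).hom.toAlgebra
  letI iD1 := (j'.appLE (b' ⁻¹ᵁ W') Z₁ eE).hom.toAlgebra
  letI iC1 := (i'.appLE (a' ⁻¹ᵁ W') Z₁ le_rfl).hom.toAlgebra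
  letI iW1 := ((i' ≫ a').appLE W' Z₁ le_rfl).hom.toAlgebra
  obtain ⟨t3, t4, hsq'⟩ := isFibreSquare hE W' (hW'.preimage a')
  letI iψ := (h.appLE W W' e).hom.toAlgebra
  letI iψY := (gY.appLE (b ⁻¹ᵁ W) (b' ⁻¹ᵁ W') eY).hom.toAlgebra
  letI iψX := (gX.appLE (a ⁻¹ᵁ W) (a' ⁻¹ᵁ W') eX).hom.toAlgebra
  letI iψZ := (gZ.appLE Z₀ Z₁ eZ).hom.toAlgebra
  letI iWD := (h.appLE W W' e ≫ b'.appLE W' (b' ⁻¹ᵁ W') le_rfl).hom.toAlgebra
  letI iWC := (h.appLE W W' e ≫ a'.appLE W' (a' ⁻¹ᵁ W') le_rfl).hom.toAlgebra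
  letI iB1 := (gY.appLE (b ⁻¹ᵁ W) (b' ⁻¹ᵁ W') eY ≫ j'.appLE (b' ⁻¹ᵁ W') Z₁ eE).hom.toAlgebra
  letI iA1 := (gX.appLE (a ⁻¹ᵁ W) (a' ⁻¹ᵁ W') eX ≫ i'.appLE (a' ⁻¹ᵁ W') Z₁ le_rfl).hom.toAlgebra
  have s1 : IsScalarTower Γ(P, W) Γ(Y, b ⁻¹ᵁ W) Γ(Y', b' ⁻¹ᵁ W') :=
    IsScalarTower.of_algebraMap_eq' (congrArg CommRingCat.Hom.hom (appLE_sq hb e le_rfl le_rfl eY))
  have s2 : IsScalarTower Γ(P, W) Γ(P', W') Γ(Y', b' ⁻¹ᵁ W') := IsScalarTower.of_algebraMap_eq' rfl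
  have s3 : IsScalarTower Γ(P, W) Γ(X, a ⁻¹ᵁ W) Γ(X', a' ⁻¹ᵁ W') :=
    IsScalarTower.of_algebraMap_eq' (congrArg CommRingCat.Hom.hom (appLE_sq ha e le_rfl le_rfl eX))
  have s4 : IsScalarTower Γ(P, W) Γ(P', W') Γ(X', a' ⁻¹ᵁ W') := IsScalarTower.of_algebraMap_eq' rfl
  have s5 : IsScalarTower Γ(Y, b ⁻¹ᵁ W) Γ(Z, Z₀) Γ(Z', Z₁) :=
    IsScalarTower.of_algebraMap_eq' (congrArg CommRingCat.Hom.hom (appLE_sq hY.w eY eE eD eZ))
  have s6 : IsScalarTower Γ(Y, b ⁻¹ᵁ W) Γ(Y', b' ⁻¹ᵁ W') Γ(Z', Z₁) := IsScalarTower.of_algebraMap_eq' rfl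
  have s7 : IsScalarTower Γ(X, a ⁻¹ᵁ W) Γ(Z, Z₀) Γ(Z', Z₁) :=
    IsScalarTower.of_algebraMap_eq' (congrArg CommRingCat.Hom.hom (appLE_sq hX.w eX le_rfl le_rfl eZ))
  have s8 : IsScalarTower Γ(X, a ⁻¹ᵁ W) Γ(X', a' ⁻¹ᵁ W') Γ(Z', Z₁) := IsScalarTower.of_algebraMap_eq' rfl
  have hUX : Z₁ = i' ⁻¹ᵁ (a' ⁻¹ᵁ W') ⊓ gZ ⁻¹ᵁ Z₀ := (inf_eq_left.mpr eZ).symm
  have hUY : Z₁ = j' ⁻¹ᵁ (b' ⁻¹ᵁ W') ⊓ gZ ⁻¹ᵁ Z₀ := by
    rw [← preimage_eq hE W']; exact hUX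
  have : Algebra.IsPushout Γ(X, a ⁻¹ᵁ W) Γ(X', a' ⁻¹ᵁ W') Γ(Z, Z₀) Γ(Z', Z₁) :=
    CommRingCat.isPushout_iff_isPushout.1 ((isIso_pushoutSection_iff hX le_rfl eX hUX).mp
      (isIso_pushoutSection_of_isAffineOpen hX le_rfl eX hUX (hW.preimage a) ((hW.preimage a).preimage i)
        (hW'.preimage a')))
  have : Algebra.IsPushout Γ(Y, b ⁻¹ᵁ W) Γ(Y', b' ⁻¹ᵁ W') Γ(Z, Z₀) Γ(Z', Z₁) :=
    CommRingCat.isPushout_iff_isPushout.1 ((isIso_pushoutSection_iff hY eD eY hUY).mp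
      (isIso_pushoutSection_of_isAffineOpen hY eD eY hUY (hW.preimage b) ((hW.preimage a).preimage i)
        (hW'.preimage b')))
  obtain ⟨p1, p2⟩ := isPushout_glue Γ(P, W) Γ(Y, b ⁻¹ᵁ W) Γ(X, a ⁻¹ᵁ W) Γ(Z, Z₀) hsq
    Γ(P', W') Γ(Y', b' ⁻¹ᵁ W') Γ(X', a' ⁻¹ᵁ W') Γ(Z', Z₁) hsq'
  exact ⟨CommRingCat.isPushout_iff_isPushout.2 (Algebra.IsPushout.symm p1),
    CommRingCat.isPushout_iff_isPushout.2 (Algebra.IsPushout.symm p2),
    Groth.Agent.S6900.result Γ(P, W) Γ(Y, b ⁻¹ᵁ W) Γ(X, a ⁻¹ᵁ W) Γ(Z, Z₀) hsq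
      Γ(P', W') Γ(Y', b' ⁻¹ᵁ W') Γ(X', a' ⁻¹ᵁ W') Γ(Z', Z₁) hsq'⟩

omit [IsClosedImmersion i] [IsClosedImmersion i'] [IsAffineHom a] [IsAffineHom a'] [IsAffineHom b] [IsAffineHom b'] in
/-- Affine pieces around a point. -/
theorem exists_pieces (x : P') : ∃ (W : P.Opens) (W' : P'.Opens),
    IsAffineOpen W ∧ IsAffineOpen W' ∧ x ∈ W' ∧ W' ≤ h ⁻¹ᵁ W := by
  obtain ⟨W, hW, hxW, -⟩ := exists_isAffineOpen_mem_and_subset (U := (⊤ : P.Opens)) (x := h x) trivial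
  obtain ⟨W', hW', hxW', hle⟩ := exists_isAffineOpen_mem_and_subset (U := h ⁻¹ᵁ W) (x := x) hxW
  exact ⟨W, W', hW, hW', hxW', hle⟩

omit [IsClosedImmersion i] [IsClosedImmersion i'] [IsAffineHom a] [IsAffineHom a'] [IsAffineHom b] [IsAffineHom b'] in
/-- A side is cartesian if its pieces are. -/
theorem isPullback_side {A A' : Scheme.{u}} {k₀ : A ⟶ P} {k' : A' ⟶ P'} {g : A' ⟶ A} [IsAffineHom k₀] [IsAffineHom k']
    (w : k' ≫ h = g ≫ k₀)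
    (H : ∀ (W : P.Opens) (W' : P'.Opens) (e : W' ≤ h ⁻¹ᵁ W), IsAffineOpen W → IsAffineOpen W' →
      IsPushout (h.appLE W W' e) (k₀.appLE W (k₀ ⁻¹ᵁ W) le_rfl) (k'.appLE W' (k' ⁻¹ᵁ W') le_rfl)
        (g.appLE (k₀ ⁻¹ᵁ W) (k' ⁻¹ᵁ W') (le_preimage_of_w w e))) : IsPullback k' g h k₀ := by
  let k : A' ⟶ pullback h k₀ := pullback.lift k' g w
  let p := pullback.fst h k₀
  let q := pullback.snd h k₀
  have : IsAffineHom p := MorphismProperty.pullback_fst _ _ ‹IsAffineHom k₀›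
  have k1 : k ≫ p = k' := pullback.lift_fst _ _ _
  have k2 : k ≫ q = g := pullback.lift_snd _ _ _
  have : IsAffineHom (k ≫ p) := by rw [k1]; infer_instance
  have : IsAffineHom k := IsAffineHom.of_comp k p
  suffices IsIso k from IsPullback.of_iso_pullback ⟨w⟩ (asIso k) k1 k2
  let I := Σ W : P.affineOpens, {W' : P'.affineOpens // W'.1 ≤ h ⁻¹ᵁ W.1}
  have hU : ⨆ x : I, p ⁻¹ᵁ x.2.1.1 = ⊤ := eq_top_iff.mpr fun z _ => by
    obtain ⟨W, W', hW, hW', hz, e⟩ := exists_pieces (h := h) (p z)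
    exact TopologicalSpace.Opens.mem_iSup.2 ⟨⟨⟨W, hW⟩, ⟨W', hW'⟩, e⟩, hz⟩
  refine (IsZariskiLocalAtTarget.iff_of_iSup_eq_top (P := MorphismProperty.isomorphisms Scheme.{u})
    (f := k) _ hU).2 fun ⟨W, W', e⟩ => ?_
  have hW' : IsAffineOpen (p ⁻¹ᵁ W'.1) := W'.2.preimage p
  refine (isIso_morphismRestrict_iff_isIso_app k hW').2 ?_
  have eq' : p ⁻¹ᵁ W'.1 ≤ q ⁻¹ᵁ (k₀ ⁻¹ᵁ W.1) := le_preimage_of_w pullback.condition e
  have hQ := (isIso_pushoutSection_iff (IsPullback.of_hasPullback h k₀) (US := W.1) (UT := k₀ ⁻¹ᵁ W.1) (UX := W'.1)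
    le_rfl e (inf_eq_left.mpr eq').symm).mp
    (isIso_pushoutSection_of_isAffineOpen _ le_rfl e (inf_eq_left.mpr eq').symm W.2 (W.2.preimage k₀) W'.2)
  have hE' := H W.1 W'.1 e W.2 W'.2
  have ek : k' ⁻¹ᵁ W'.1 ≤ k ⁻¹ᵁ (p ⁻¹ᵁ W'.1) := le_of_eq (by rw [← Scheme.Hom.comp_preimage, k1])
  have hk : IsIso (k.appLE (p ⁻¹ᵁ W'.1) (k' ⁻¹ᵁ W'.1) ek) := by
    have : k.appLE (p ⁻¹ᵁ W'.1) (k' ⁻¹ᵁ W'.1) ek = (hQ.isoIsPushout _ _ hE').hom := hQ.hom_ext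
      (by rw [IsPushout.inl_isoIsPushout_hom]; exact appLE_comp_eq k1 _ _ _)
      (by rw [IsPushout.inr_isoIsPushout_hom]; exact appLE_comp_eq k2 _ _ _)
    rw [this]; infer_instance
  have he : k ⁻¹ᵁ (p ⁻¹ᵁ W'.1) = k' ⁻¹ᵁ W'.1 := by rw [← Scheme.Hom.comp_preimage, k1]
  rw [Scheme.Hom.app_eq_appLE, ← Scheme.Hom.appLE_map (e := ek) (i := (eqToHom he).op)]
  infer_instance

include hD hE hX hY ha hb in
/-- The side over `Y` is cartesian. -/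
theorem isPullback_inr : IsPullback b' gY h b :=
  isPullback_side hb fun _ _ e hW hW' => (piece hD hE hX hY ha hb hW hW' e).1

include hD hE hX hY ha hb in
/-- The side over `X` is cartesian. -/
theorem isPullback_inl : IsPullback a' gX h a :=
  isPullback_side ha fun _ _ e hW hW' => (piece hD hE hX hY ha hb hW hW' e).2.1

section Props

variable {Q : MorphismProperty Scheme.{u}} {R : ∀ {A B : Type u} [CommRing A] [CommRing B], (A →+* B) → Prop}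
  [HasRingHomProperty Q R] (hR : RingHom.StableUnderCompositionWithLocalizationAwaySource @R)

omit [IsClosedImmersion i] [IsClosedImmersion i'] [IsAffineHom a] [IsAffineHom b] in
include ha hb hR in
/-- A property holds for the map of pushouts if its pieces have it. -/
theorem of_sides (H : ∀ (W : P.Opens) (W' : P'.Opens) (e : W' ≤ h ⁻¹ᵁ W), IsAffineOpen W → IsAffineOpen W' →
      R (gY.appLE (b ⁻¹ᵁ W) (b' ⁻¹ᵁ W') (le_preimage_of_w hb e)).hom →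
      R (gX.appLE (a ⁻¹ᵁ W) (a' ⁻¹ᵁ W') (le_preimage_of_w ha e)).hom → R (h.appLE W W' e).hom)
    [IsAffineHom a] [IsAffineHom b] (hy : Q gY) (hx : Q gX) : Q h := by
  refine (HasRingHomProperty.iff_exists_appLE (P := Q) hR).2 fun x => ?_
  obtain ⟨W, W', hW, hW', hxW, e⟩ := exists_pieces (h := h) x
  exact ⟨⟨W, hW⟩, ⟨W', hW'⟩, hxW, e, H W W' e hW hW'
    (HasRingHomProperty.appLE Q gY hy ⟨_, hW.preimage b⟩ ⟨_, hW'.preimage b'⟩ _)
    (HasRingHomProperty.appLE Q gX hx ⟨_, hW.preimage a⟩ ⟨_, hW'.preimage a'⟩ _)⟩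

include hR in
/-- A side has a property if its pieces have it. -/
theorem of_map {A A' : Scheme.{u}} {k : A ⟶ P} {k' : A' ⟶ P'} {g : A' ⟶ A} [IsAffineHom k] [IsAffineHom k']
    (w : k' ≫ h = g ≫ k)
    (H : ∀ (W : P.Opens) (W' : P'.Opens) (e : W' ≤ h ⁻¹ᵁ W), IsAffineOpen W → IsAffineOpen W' →
      R (g.appLE (k ⁻¹ᵁ W) (k' ⁻¹ᵁ W') (le_preimage_of_w w e)).hom) : Q g := by
  refine (HasRingHomProperty.iff_exists_appLE (P := Q) hR).2 fun x => ?_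
  obtain ⟨W, W', hW, hW', hxW, e⟩ := exists_pieces (h := h) (k' x)
  exact ⟨⟨_, hW.preimage k⟩, ⟨_, hW'.preimage k'⟩, hxW, _, H W W' e hW hW'⟩

end Props

include hD hE hX hY ha hb in
theorem lft_iff : LocallyOfFiniteType h ↔ LocallyOfFiniteType gY ∧ LocallyOfFiniteType gX :=
  ⟨fun hh => have hp := fun W W' e hW hW' => (piece hD hE hX hY ha hb (W := W) (W' := W') hW hW' e).2.2.1.1 (HasRingHomProperty.appLE @LocallyOfFiniteType h hh ⟨_, hW⟩ ⟨_, hW'⟩ e)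
    ⟨of_map stab_lft hb fun W W' e hW hW' => (hp W W' e hW hW').1, of_map stab_lft ha fun W W' e hW hW' => (hp W W' e hW hW').2⟩,
   fun ⟨h1, h2⟩ => of_sides ha hb (hR := stab_lft)
      (fun W W' e hW hW' r1 r2 => (piece hD hE hX hY ha hb hW hW' e).2.2.1.2 ⟨r1, r2⟩) h1 h2⟩

include hD hE hX hY ha hb in
theorem flat_iff : Flat h ↔ Flat gY ∧ Flat gX :=
  ⟨fun hh => have hp := fun W W' e hW hW' => (piece hD hE hX hY ha hb (W := W) (W' := W') hW hW' e).2.2.2.1.1 (HasRingHomProperty.appLE @Flat h hh ⟨_, hW⟩ ⟨_, hW'⟩ e)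
    ⟨of_map stab_flat hb fun W W' e hW hW' => (hp W W' e hW hW').1, of_map stab_flat ha fun W W' e hW hW' => (hp W W' e hW hW').2⟩,
   fun ⟨h1, h2⟩ => of_sides ha hb (hR := stab_flat)
      (fun W W' e hW hW' r1 r2 => (piece hD hE hX hY ha hb hW hW' e).2.2.2.1.2 ⟨r1, r2⟩) h1 h2⟩

include hD hE hX hY ha hb in
theorem flat_lfp_iff : (Flat h ∧ LocallyOfFinitePresentation h) ↔
    (Flat gY ∧ LocallyOfFinitePresentation gY) ∧ (Flat gX ∧ LocallyOfFinitePresentation gX) := by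
  refine ⟨fun ⟨hf, hp⟩ => ?_, fun ⟨⟨f1, p1⟩, f2, p2⟩ => ⟨(flat_iff hD hE hX hY ha hb).2 ⟨f1, f2⟩, ?_⟩⟩
  · have hh := fun W W' e hW hW' => (piece hD hE hX hY ha hb (W := W) (W' := W') hW hW' e).2.2.2.2.1.1 ⟨HasRingHomProperty.appLE @Flat h hf ⟨_, hW⟩ ⟨_, hW'⟩ e,
          HasRingHomProperty.appLE @LocallyOfFinitePresentation h hp ⟨_, hW⟩ ⟨_, hW'⟩ e⟩
    exact ⟨⟨of_map stab_flat hb fun W W' e hW hW' => (hh W W' e hW hW').1.1, of_map stab_lfp hb fun W W' e hW hW' => (hh W W' e hW hW').1.2⟩,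
      of_map stab_flat ha fun W W' e hW hW' => (hh W W' e hW hW').2.1, of_map stab_lfp ha fun W W' e hW hW' => (hh W W' e hW hW').2.2⟩
  · refine of_sides ha hb (hR := stab_lfp) (fun W W' e hW hW' r1 r2 => ?_) p1 p2
    exact ((piece hD hE hX hY ha hb hW hW' e).2.2.2.2.1.2
      ⟨⟨HasRingHomProperty.appLE @Flat gY f1 ⟨_, hW.preimage b⟩ ⟨_, hW'.preimage b'⟩ _, r1⟩,
        HasRingHomProperty.appLE @Flat gX f2 ⟨_, hW.preimage a⟩ ⟨_, hW'.preimage a'⟩ _, r2⟩).2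

include hD hE hX hY ha hb in
theorem smooth_iff : Smooth h ↔ Smooth gY ∧ Smooth gX :=
  ⟨fun hh => have hp := fun W W' e hW hW' => (piece hD hE hX hY ha hb (W := W) (W' := W') hW hW' e).2.2.2.2.2.1.1 (HasRingHomProperty.appLE @Smooth h hh ⟨_, hW⟩ ⟨_, hW'⟩ e)
    ⟨of_map stab_smooth hb fun W W' e hW hW' => (hp W W' e hW hW').1, of_map stab_smooth ha fun W W' e hW hW' => (hp W W' e hW hW').2⟩,
   fun ⟨h1, h2⟩ => of_sides ha hb (hR := stab_smooth)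
      (fun W W' e hW hW' r1 r2 => (piece hD hE hX hY ha hb hW hW' e).2.2.2.2.2.1.2 ⟨r1, r2⟩) h1 h2⟩

include hD hE hX hY ha hb in
theorem etale_iff : Etale h ↔ Etale gY ∧ Etale gX :=
  ⟨fun hh => have hp := fun W W' e hW hW' => (piece hD hE hX hY ha hb (W := W) (W' := W') hW hW' e).2.2.2.2.2.2.1 (HasRingHomProperty.appLE @Etale h hh ⟨_, hW⟩ ⟨_, hW'⟩ e)
    ⟨of_map stab_etale hb fun W W' e hW hW' => (hp W W' e hW hW').1, of_map stab_etale ha fun W W' e hW hW' => (hp W W' e hW hW').2⟩,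
   fun ⟨h1, h2⟩ => of_sides ha hb (hR := stab_etale)
      (fun W W' e hW hW' r1 r2 => (piece hD hE hX hY ha hb hW hW' e).2.2.2.2.2.2.2 ⟨r1, r2⟩) h1 h2⟩

end Groth.Agent.AlgSpD.ThickPush
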