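import Groth.Agent.AlgSpD.ThickPush.Rel
import Groth.Agent.AlgSp.Quot
import Groth.Agent.AlgSp.DescentSepLqf
import Groth.Agent.AlgSpD.IntegralMor
import Groth.Agent.AlgSpCov.AffineFamily
import Groth.Agent.AlgSp.FppfLocal2

/-!
# The pushout of a thickening along an affine morphism of algebraic spaces
-/

universe u

open CategoryTheory CategoryTheory.Limits AlgebraicGeometry Opposite

set_option autoImplicit false
set_option backward.isDefEq.respectTransparency false
set_option backward.isDefEq.respectTransparency.types false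

namespace Groth.Agent.AlgSpD.ThickPush

open _root_.AlgSp
open Groth.Agent.AlgSpD

variable {S : Scheme.{u}} {X X' Y : Space S} {t : X ⟶ X'} {f : X ⟶ Y} {D : Atlas t f}

instance (D : Atlas t f) : Mono D.tV :=
  (Over.forget S).mono_of_mono_map (inferInstanceAs (Mono D.tV.left))

/-- Maps out of an etale scheme over the pushout are determined on the two parts. -/
theorem hom_ext_cover {F : Sp S} (hd : Representable (Limits.diag F)) {Q : Over S} (q : Q ⟶ D.P) (hq : Etale q.left)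
    (γ γ' : (yon S).obj Q ⟶ F)
    (hV : ∀ (T : Over S) (l : T ⟶ Q) (c : T ⟶ D.V), l ≫ q = c ≫ D.tV → (yon S).map l ≫ γ = (yon S).map l ≫ γ')
    (hU : ∀ (T : Over S) (l : T ⟶ Q) (a : T ⟶ D.U'), l ≫ q = a ≫ D.fU' → (yon S).map l ≫ γ = (yon S).map l ≫ γ') :
    γ = γ' := by
  let iQ : pullback (D.tU ≫ D.fU') q ⟶ pullback D.fU' q :=
    pullback.lift (pullback.fst _ _ ≫ D.tU) (pullback.snd _ _) (by rw [Category.assoc, pullback.condition])
  let jQ : pullback (D.tU ≫ D.fU') q ⟶ pullback D.tV q :=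
    pullback.lift (pullback.fst _ _ ≫ D.fU) (pullback.snd _ _) (by rw [Category.assoc, ← D.po.w, pullback.condition])
  have i2 : iQ ≫ pullback.snd D.fU' q = pullback.snd (D.tU ≫ D.fU') q := pullback.lift_snd _ _ _
  have j2 : jQ ≫ pullback.snd D.tV q = pullback.snd (D.tU ≫ D.fU') q := pullback.lift_snd _ _ _
  have hpo := D.etBC q hq (pullback.fst D.fU' q) _ (pullback.fst D.tV q) _ (pullback.fst (D.tU ≫ D.fU') q) iQ jQ
    (IsPullback.of_hasPullback D.fU' q) (IsPullback.of_hasPullback D.tV q)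
    (by rw [i2]; exact IsPullback.of_hasPullback (D.tU ≫ D.fU') q) (pullback.lift_fst _ _ _)
    (pullback.lift_fst _ _ _) (i2.trans j2.symm)
  exact SchemePush.hom_ext_of_isPushout hd hpo γ γ' (hU _ _ (pullback.fst _ _) pullback.condition.symm)
    (hV _ _ (pullback.fst _ _) pullback.condition.symm)

theorem sch_ext_cover {Q Z : Over S} (q : Q ⟶ D.P) (hq : Etale q.left) (γ γ' : Q ⟶ Z)
    (hV : ∀ (T : Over S) (l : T ⟶ Q) (c : T ⟶ D.V), l ≫ q = c ≫ D.tV → l ≫ γ = l ≫ γ')
    (hU : ∀ (T : Over S) (l : T ⟶ Q) (a : T ⟶ D.U'), l ≫ q = a ≫ D.fU' → l ≫ γ = l ≫ γ') : γ = γ' :=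
  (yon S).map_injective (hom_ext_cover (IsAlgSpace.yon_obj Z).diag q hq _ _
    (fun T l c h => by rw [← Functor.map_comp, ← Functor.map_comp, hV T l c h])
    (fun T l a h => by rw [← Functor.map_comp, ← Functor.map_comp, hU T l a h]))

variable (G : D.Rel)

/-- Over `V` the relation is the relation of `V`. -/
theorem Atlas.Rel.ext_V {A : Over S} {x y : A ⟶ G.R'} (c : A ⟶ D.V) (hx : x ≫ G.s = c ≫ D.tV)
    (hy : y ≫ G.s = c ≫ D.tV) (h : x ≫ G.t' = y ≫ G.t') : x = y := by
  let rx := G.sρ.lift c x hx.symm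
  let ry := G.sρ.lift c y hy.symm
  have hrx : rx ≫ G.ρ = x := G.sρ.lift_snd _ _ _
  have hry : ry ≫ G.ρ = y := G.sρ.lift_snd _ _ _
  have h1 : rx ≫ G.π₁ = ry ≫ G.π₁ := (G.sρ.lift_fst c x hx.symm).trans (G.sρ.lift_fst c y hy.symm).symm
  have h2 : rx ≫ G.π₂ = ry ≫ G.π₂ := by
    rw [← cancel_mono D.tV, Category.assoc, Category.assoc, ← G.hρt, reassoc_of% hrx, reassoc_of% hry, h]
  have : rx = ry := (yon S).map_injective (G.sR.hom_ext
    (by rw [← Functor.map_comp, ← Functor.map_comp, h1]) (by rw [← Functor.map_comp, ← Functor.map_comp, h2]))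
  rw [← hrx, ← hry, this]

theorem Atlas.Rel.repWith_s : RepWith @Etale ((yon S).map G.s) := (repWith_yon_map_iff _ G.s).2 G.hs

/-- The relation is a monomorphism. -/
theorem Atlas.Rel.injective {T : Over S} (r r' : T ⟶ G.R') (h₁ : r ≫ G.t' = r' ≫ G.t') (h₂ : r ≫ G.s = r' ≫ G.s) :
    r = r' := by
  let i := pullback.snd D.tV (r ≫ G.s)
  have : Surjective i.left := MorphismProperty.of_isPullback (P := @Surjective)
    ((IsPullback.of_hasPullback D.tV (r ≫ G.s)).map (Over.forget S)) D.tV_surj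
  refine hom_ext_thick G.repWith_s i (by rw [← Functor.map_comp, ← Functor.map_comp, h₂])
    (G.ext_V (pullback.fst D.tV (r ≫ G.s)) ?_ ?_ ?_)
  · rw [Category.assoc]; exact pullback.condition.symm
  · rw [Category.assoc, ← h₂]; exact pullback.condition.symm
  · rw [Category.assoc, Category.assoc, h₁]

/-- The target of a point of the relation over `U'` is determined over `V`. -/
theorem Atlas.Rel.eq_fU' {T : Over S} (a b : T ⟶ D.U') (hab : (yon S).map a ≫ D.u' = (yon S).map b ≫ D.u')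
    (x : T ⟶ G.R') (hx : x ≫ G.s = a ≫ D.fU')
    (h : pullback.snd D.tU a ≫ x ≫ G.t' = pullback.snd D.tU a ≫ b ≫ D.fU') : x ≫ G.t' = b ≫ D.fU' := by
  obtain ⟨r, hr1, hr2⟩ := G.hk T a b hab
  let i := pullback.snd D.tU a
  have : Surjective i.left := MorphismProperty.of_isPullback (P := @Surjective)
    ((IsPullback.of_hasPullback D.tU a).map (Over.forget S)) D.tU_surj
  have hc : (i ≫ a) ≫ D.fU' = (pullback.fst D.tU a ≫ D.fU) ≫ D.tV := by
    rw [← pullback.condition, Category.assoc, Category.assoc, D.po.w]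
  have : r = x := hom_ext_thick G.repWith_s i (by rw [← Functor.map_comp, ← Functor.map_comp, hr1, hx])
    (G.ext_V (pullback.fst D.tU a ≫ D.fU) (by rw [Category.assoc, hr1, ← Category.assoc, hc])
      (by rw [Category.assoc, hx, ← Category.assoc, hc]) (by rw [Category.assoc, Category.assoc, hr2, h]))
  rw [← this, hr2]

/-- Reflexivity. -/
theorem Atlas.Rel.exists_refl : ∃ δ : D.P ⟶ G.R', δ ≫ G.s = 𝟙 _ ∧ δ ≫ G.t' = 𝟙 _ := by
  obtain ⟨d, hd⟩ := (yon S).map_surjective (G.sR.lift (𝟙 _) (𝟙 _) rfl)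
  have d1 : d ≫ G.π₁ = 𝟙 _ := (yon S).map_injective (by rw [Functor.map_comp, hd, G.sR.lift_fst, CategoryTheory.Functor.map_id])
  have d2 : d ≫ G.π₂ = 𝟙 _ := (yon S).map_injective (by rw [Functor.map_comp, hd, G.sR.lift_snd, CategoryTheory.Functor.map_id])
  obtain ⟨δ, hδ1, hδ2⟩ := exists_lift_thick G.repWith_s D.tV (𝟙 _) (d ≫ G.ρ) (by
    rw [← Functor.map_comp, Category.assoc, ← G.sρ.w, reassoc_of% d1, Category.comp_id])
  have hδs : δ ≫ G.s = 𝟙 _ := (yon S).map_injective (by rw [Functor.map_comp, hδ1, CategoryTheory.Functor.map_id])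
  have hV : D.tV ≫ δ ≫ G.t' = D.tV := by
    rw [← Category.assoc, hδ2, Category.assoc, G.hρt, reassoc_of% d2]
  refine ⟨δ, hδs, D.po.hom_ext ?_ (by rw [hV, Category.comp_id])⟩
  have := G.eq_fU' (𝟙 D.U') (𝟙 _) rfl (D.fU' ≫ δ) (by rw [Category.assoc, hδs, Category.comp_id, Category.id_comp])
    (by
      have hi : pullback.snd D.tU (𝟙 D.U') = pullback.fst D.tU (𝟙 D.U') ≫ D.tU := by
        rw [pullback.condition, Category.comp_id]
      rw [hi]
      simp only [Category.assoc, Category.id_comp]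
      rw [reassoc_of% D.po.w, hV, D.po.w])
  simpa using this

/-- Symmetry. -/
theorem Atlas.Rel.exists_symm : ∃ σ : G.R' ⟶ G.R', σ ≫ G.s = G.t' ∧ σ ≫ G.t' = G.s := by
  obtain ⟨sw, hsw⟩ := (yon S).map_surjective (G.sR.lift ((yon S).map G.π₂) ((yon S).map G.π₁) G.sR.w.symm)
  have w1 : sw ≫ G.π₁ = G.π₂ := (yon S).map_injective (by rw [Functor.map_comp, hsw, G.sR.lift_fst])
  have w2 : sw ≫ G.π₂ = G.π₁ := (yon S).map_injective (by rw [Functor.map_comp, hsw, G.sR.lift_snd])
  have : IsClosedImmersion G.ρ.left := MorphismProperty.of_isPullback (G.sρ.map (Over.forget S)) D.tV_closed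
  have : Surjective G.ρ.left := MorphismProperty.of_isPullback (P := @Surjective) (G.sρ.map (Over.forget S)) D.tV_surj
  obtain ⟨σ, hσ1, hσ2⟩ := exists_lift_thick G.repWith_s G.ρ ((yon S).map G.t') (sw ≫ G.ρ) (by
    rw [← Functor.map_comp, ← Functor.map_comp, Category.assoc, ← G.sρ.w, reassoc_of% w1, G.hρt])
  have hσs : σ ≫ G.s = G.t' := (yon S).map_injective (by rw [Functor.map_comp, hσ1])
  have hV : ∀ (T : Over S) (l : T ⟶ G.R') (c : T ⟶ D.V), l ≫ G.s = c ≫ D.tV → l ≫ σ ≫ G.t' = l ≫ G.s := by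
    intro T l c hl
    rw [← show G.sρ.lift c l hl.symm ≫ G.ρ = l from G.sρ.lift_snd _ _ _]
    simp only [Category.assoc]
    rw [reassoc_of% hσ2, G.hρt, reassoc_of% w2, G.sρ.w]
  refine ⟨σ, hσs, sch_ext_cover G.s G.hs _ _ hV fun T l a hl => ?_⟩
  obtain ⟨b, hb, hab⟩ := G.hg T l a hl
  let i := pullback.snd D.tU b
  obtain ⟨cB, hcB⟩ := (yon S).map_surjective (D.sqU'.lift ((yon S).map (pullback.fst D.tU b) ≫ D.uX)
    ((yon S).map (i ≫ a)) (by
      rw [Category.assoc, D.sqU'.w, ← Functor.map_comp_assoc, pullback.condition, Functor.map_comp, Category.assoc,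
        ← hab, ← Functor.map_comp_assoc]))
  have hB : cB ≫ D.tU = i ≫ a := (yon S).map_injective (by rw [Functor.map_comp, hcB, D.sqU'.lift_snd])
  have he : (i ≫ l) ≫ G.s = (cB ≫ D.fU) ≫ D.tV := by
    rw [Category.assoc, hl, ← reassoc_of% hB, D.po.w, Category.assoc]
  have := G.eq_fU' b a hab.symm (l ≫ σ) (by rw [Category.assoc, hσs, hb]) (by
    simp only [Category.assoc]
    rw [← hl, ← Category.assoc, hV _ (i ≫ l) _ he, Category.assoc])
  rw [← Category.assoc]
  exact this.trans hl.symm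

/-- Transitivity. -/
theorem Atlas.Rel.exists_trans {T : Over S} (r₁ r₂ : T ⟶ G.R') (h : r₁ ≫ G.t' = r₂ ≫ G.s) :
    ∃ r : T ⟶ G.R', r ≫ G.s = r₁ ≫ G.s ∧ r ≫ G.t' = r₂ ≫ G.t' := by
  let Q := pullback G.t' G.s
  let q₁ : Q ⟶ G.R' := pullback.fst _ _
  let q₂ : Q ⟶ G.R' := pullback.snd _ _
  have hq : q₁ ≫ G.t' = q₂ ≫ G.s := pullback.condition
  have hqe : Etale (q₁ ≫ G.s).left := by
    have : Etale q₁.left := MorphismProperty.of_isPullback
      ((IsPullback.of_hasPullback G.t' G.s).map (Over.forget S)).flip G.hs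
    have := G.hs
    rw [Over.comp_left]
    infer_instance
  have : IsClosedImmersion G.ρ.left := MorphismProperty.of_isPullback (G.sρ.map (Over.forget S)) D.tV_closed
  have : Surjective G.ρ.left := MorphismProperty.of_isPullback (P := @Surjective) (G.sρ.map (Over.forget S)) D.tV_surj
  let e₁ : pullback G.ρ q₁ ⟶ G.R := pullback.fst _ _
  let i : pullback G.ρ q₁ ⟶ Q := pullback.snd _ _
  have hi : e₁ ≫ G.ρ = i ≫ q₁ := pullback.condition
  have : IsClosedImmersion i.left := MorphismProperty.of_isPullback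
    ((IsPullback.of_hasPullback G.ρ q₁).map (Over.forget S)) ‹IsClosedImmersion G.ρ.left›
  have : Surjective i.left := MorphismProperty.of_isPullback (P := @Surjective)
    ((IsPullback.of_hasPullback G.ρ q₁).map (Over.forget S)) ‹Surjective G.ρ.left›
  let e₂ : pullback G.ρ q₁ ⟶ G.R := G.sρ.lift (e₁ ≫ G.π₂) (i ≫ q₂) (by
    rw [Category.assoc, ← G.hρt, reassoc_of% hi, hq, Category.assoc])
  have h21 : e₂ ≫ G.π₁ = e₁ ≫ G.π₂ := G.sρ.lift_fst _ _ _
  have h22 : e₂ ≫ G.ρ = i ≫ q₂ := G.sρ.lift_snd _ _ _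
  obtain ⟨e, he⟩ := (yon S).map_surjective (G.sR.lift ((yon S).map (e₁ ≫ G.π₁)) ((yon S).map (e₂ ≫ G.π₂)) (by
    simp only [Functor.map_comp, Category.assoc, G.sR.w]
    rw [← Functor.map_comp_assoc, ← h21, Functor.map_comp, Category.assoc, G.sR.w]))
  have h1 : e ≫ G.π₁ = e₁ ≫ G.π₁ := (yon S).map_injective (by rw [Functor.map_comp, he, G.sR.lift_fst])
  have h2 : e ≫ G.π₂ = e₂ ≫ G.π₂ := (yon S).map_injective (by rw [Functor.map_comp, he, G.sR.lift_snd])
  obtain ⟨c, hc1, hc2⟩ := exists_lift_thick G.repWith_s i ((yon S).map (q₁ ≫ G.s)) (e ≫ G.ρ) (by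
    rw [← Functor.map_comp, ← Functor.map_comp, Category.assoc, ← G.sρ.w, reassoc_of% h1, G.sρ.w,
      reassoc_of% hi])
  have hcs : c ≫ G.s = q₁ ≫ G.s := (yon S).map_injective (by rw [Functor.map_comp, hc1])
  have hV : ∀ (T' : Over S) (l : T' ⟶ Q) (x : T' ⟶ D.V), l ≫ q₁ ≫ G.s = x ≫ D.tV →
      l ≫ c ≫ G.t' = l ≫ q₂ ≫ G.t' := by
    intro T' l x hl
    let a := G.sρ.lift x (l ≫ q₁) (by rw [Category.assoc, hl])
    obtain ⟨lA, hlA⟩ : ∃ lA : T' ⟶ pullback G.ρ q₁, lA ≫ i = l :=
      ⟨pullback.lift a l (G.sρ.lift_snd _ _ _), pullback.lift_snd _ _ _⟩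
    rw [← hlA]
    simp only [Category.assoc]
    rw [reassoc_of% hc2, G.hρt, reassoc_of% h2, ← G.hρt, reassoc_of% h22]
  have hct : c ≫ G.t' = q₂ ≫ G.t' := by
    refine sch_ext_cover (q₁ ≫ G.s) hqe _ _ hV fun T' l a hl => ?_
    obtain ⟨b, hb, hab⟩ := G.hg T' (l ≫ q₁) a (by rw [Category.assoc, hl])
    obtain ⟨d, hd, hbd⟩ := G.hg T' (l ≫ q₂) b (by rw [Category.assoc, ← hq, ← Category.assoc, hb])
    rw [Category.assoc] at hd
    have := G.eq_fU' a d (hab.trans hbd) (l ≫ c) (by rw [Category.assoc, hcs, hl]) (by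
      have he : (pullback.snd D.tU a ≫ l) ≫ q₁ ≫ G.s = (pullback.fst D.tU a ≫ D.fU) ≫ D.tV := by
        rw [Category.assoc, hl, ← reassoc_of% pullback.condition (f := D.tU) (g := a), D.po.w, Category.assoc]
      rw [← hd]
      simpa only [Category.assoc] using hV _ _ _ he)
    rw [← Category.assoc, this, hd]
  refine ⟨pullback.lift r₁ r₂ h ≫ c, ?_, ?_⟩
  · rw [Category.assoc, hcs, ← Category.assoc]
    simp [q₁]
  · rw [Category.assoc, hct, ← Category.assoc]
    simp [q₂]

theorem Atlas.Rel.isEqvRel : IsEqvRel G.s G.t' := by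
  obtain ⟨δ, δs, δt⟩ := G.exists_refl
  obtain ⟨σ, σs, σt⟩ := G.exists_symm
  refine ⟨fun T r r' => G.injective r r', fun T => ⟨fun a => ⟨a ≫ δ, ?_, ?_⟩, ?_, ?_⟩⟩
  · rw [Category.assoc, δt, Category.comp_id]
  · rw [Category.assoc, δs, Category.comp_id]
  · rintro a b ⟨r, rfl, rfl⟩
    exact ⟨r ≫ σ, by rw [Category.assoc, σt], by rw [Category.assoc, σs]⟩
  · rintro a b c ⟨r, rfl, rfl⟩ ⟨r', h, rfl⟩
    obtain ⟨k, k1, k2⟩ := G.exists_trans r' r h
    exact ⟨k, k2, k1⟩

theorem Atlas.Rel.etale_t' : Etale G.t'.left := by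
  obtain ⟨σ, σs, σt⟩ := G.exists_symm
  have h : σ ≫ σ = 𝟙 G.R' := G.injective _ _ (by rw [Category.assoc, σt, σs, Category.id_comp])
    (by rw [Category.assoc, σs, σt, Category.id_comp])
  have : IsIso σ := ⟨σ, h, h⟩
  have := G.hs
  rw [← σs, Over.comp_left]
  infer_instance

theorem isLocalAtTarget_thick : (AlgSp.thick : MorphismProperty Scheme.{u}).IsLocalAtTarget Scheme.fppfPrecoverage :=
  have : (AlgSp.thick : MorphismProperty Scheme.{u}).IsStableUnderBaseChange :=
    inferInstanceAs (MorphismProperty.IsStableUnderBaseChange (@IsClosedImmersion ⊓ @Surjective : MorphismProperty Scheme.{u}))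
  have := Groth.Agent.AlgSpCov.isZariskiLocalAtTarget_thick.{u}
  Groth.Agent.AlgSp.isLocalAtTarget_fppf_of_fpqc _ Groth.Agent.AlgSpCov.descendsAlong_thick

/- The quotient is the pushout. -/
include G in
theorem Atlas.Rel.exists_isPushout :
    ∃ (Y' : Space S) (f' : X' ⟶ Y') (t₁ : Y ⟶ Y') (π : (yon S).obj D.P ⟶ Y'.obj),
      IsPushout t f f' t₁ ∧ IsThickMor t₁.hom ∧ RepWith @Etale π ∧ RepWith @Surjective π ∧
      IsPullback D.v ((yon S).map D.tV) t₁.hom π ∧ IsPullback D.u' ((yon S).map D.fU') f'.hom π := by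
  let π := Groth.Agent.AlgSp.yπ G.s G.t'
  have := Groth.Agent.AlgSp.isLocallySurjective_yπ G.s G.t'
  have sq := Groth.Agent.AlgSp.isPullback_yπ G.s G.t' G.isEqvRel
  obtain ⟨hF, hπ, hπs⟩ := Groth.Agent.AlgSp.isAlgSpace_of_kernelPair π sq G.hs
  let Y' : Space S := ⟨_, hF⟩
  have := Groth.Agent.AlgSp.isLocallySurjective_of_etale_surjective D.v D.hv D.hvs
  have := Groth.Agent.AlgSp.isLocallySurjective_of_etale_surjective D.u' D.hu' D.hu's
  have : Epi D.v := Sheaf.epi_of_isLocallySurjective D.v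
  have : Epi D.u' := Sheaf.epi_of_isLocallySurjective D.u'
  have : Epi π := Sheaf.epi_of_isLocallySurjective π
  obtain ⟨cv⟩ := Groth.Agent.AlgSp.isColimit_of_isPullback D.v G.sR
  obtain ⟨K, ka, kb, sK⟩ := Groth.Agent.AlgSpB.exists_pullback_yon D.hu'.1 D.u'
  obtain ⟨cu⟩ := Groth.Agent.AlgSp.isColimit_of_isPullback D.u' sK
  obtain ⟨cπ⟩ := Groth.Agent.AlgSp.isColimit_of_isPullback π sq
  let b : Y.obj ⟶ Y'.obj := Cofork.IsColimit.desc cv ((yon S).map D.tV ≫ π) (by
    rw [← Functor.map_comp_assoc, ← Functor.map_comp_assoc, G.sρ.w, ← G.hρt, Functor.map_comp, Functor.map_comp,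
      Category.assoc, Category.assoc, sq.w])
  have hb : D.v ≫ b = (yon S).map D.tV ≫ π := Cofork.IsColimit.π_desc' cv ((yon S).map D.tV ≫ π) _
  let a : X'.obj ⟶ Y'.obj := Cofork.IsColimit.desc cu ((yon S).map D.fU' ≫ π) (by
    obtain ⟨r, r1, r2⟩ := G.hk K ka kb sK.w
    rw [← Functor.map_comp_assoc, ← Functor.map_comp_assoc, ← r1, ← r2, Functor.map_comp, Functor.map_comp,
      Category.assoc, Category.assoc, sq.w])
  have ha : D.u' ≫ a = (yon S).map D.fU' ≫ π := Cofork.IsColimit.π_desc' cu ((yon S).map D.fU' ≫ π) _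
  have hUX : Epi D.uX := by
    have := Groth.Agent.AlgSp.isLocallySurjective_of_etale_surjective D.uX
      (MorphismProperty.of_isPullback D.sqU.flip D.hv) (MorphismProperty.of_isPullback D.sqU.flip D.hvs)
    exact Sheaf.epi_of_isLocallySurjective D.uX
  have hw : t.hom ≫ a = f.hom ≫ b := by
    rw [← cancel_epi D.uX, ← Category.assoc, ← Category.assoc, D.sqU'.w, D.sqU.w, Category.assoc, Category.assoc,
      ha, hb, ← Functor.map_comp_assoc, ← Functor.map_comp_assoc, D.po.w]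
  have sV : IsPullback D.v ((yon S).map D.tV) b π := by
    let g := pullback.lift D.v ((yon S).map D.tV) hb
    have g1 : g ≫ pullback.fst b π = D.v := pullback.lift_fst _ _ _
    have g2 : g ≫ pullback.snd b π = (yon S).map D.tV := pullback.lift_snd _ _ _
    have : Mono (g ≫ pullback.snd b π) := by rw [g2]; infer_instance
    have : Mono g := mono_of_mono g (pullback.snd b π)
    let p : pullback (pullback.fst b π) D.v ⟶ pullback b π := pullback.fst _ _
    let e₂ : pullback (pullback.fst b π) D.v ⟶ (yon S).obj D.V := pullback.snd _ _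
    have he : p ≫ pullback.fst b π = e₂ ≫ D.v := pullback.condition
    have := Groth.Agent.AlgSp.isLocallySurjective_of_etale_surjective p
      (MorphismProperty.of_isPullback (IsPullback.of_hasPullback (pullback.fst b π) D.v).flip D.hv)
      (MorphismProperty.of_isPullback (IsPullback.of_hasPullback (pullback.fst b π) D.v).flip D.hvs)
    have : Epi p := Sheaf.epi_of_isLocallySurjective p
    have hk : (p ≫ pullback.snd b π) ≫ π = (e₂ ≫ (yon S).map D.tV) ≫ π := by
      rw [Category.assoc, ← pullback.condition, reassoc_of% he, hb, Category.assoc]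
    let k := sq.lift _ _ hk
    have k1 : k ≫ (yon S).map G.t' = p ≫ pullback.snd b π := sq.lift_fst _ _ _
    have k2 : k ≫ (yon S).map G.s = e₂ ≫ (yon S).map D.tV := sq.lift_snd _ _ _
    let r := (G.sρ.map (yon S)).lift e₂ k k2.symm
    have r1 : r ≫ (yon S).map G.π₁ = e₂ := (G.sρ.map (yon S)).lift_fst _ _ _
    have r2 : r ≫ (yon S).map G.ρ = k := (G.sρ.map (yon S)).lift_snd _ _ _
    have hp : (r ≫ (yon S).map G.π₂) ≫ g = p := by
      refine pullback.hom_ext ?_ ?_
      · rw [Category.assoc, g1, Category.assoc, ← G.sR.w, reassoc_of% r1, he]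
      · rw [Category.assoc, g2, Category.assoc, ← Functor.map_comp, ← G.hρt, Functor.map_comp, reassoc_of% r2, k1]
    have : Epi ((r ≫ (yon S).map G.π₂) ≫ g) := by rw [hp]; infer_instance
    have : Epi g := epi_of_epi (r ≫ (yon S).map G.π₂) g
    have : IsIso g := isIso_of_mono_of_epi g
    exact IsPullback.of_iso_pullback ⟨hb⟩ (asIso g) g1 g2
  have hthick : IsThickMor b := by
    have := isLocalAtTarget_thick.{u}
    have : (AlgSp.thick : MorphismProperty Scheme.{u}).IsStableUnderBaseChange :=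
      inferInstanceAs (MorphismProperty.IsStableUnderBaseChange (@IsClosedImmersion ⊓ @Surjective : MorphismProperty Scheme.{u}))
    exact Groth.Agent.AlgSpD.repWith_descend (P := AlgSp.thick)
      (fun h hh => have : IsClosedImmersion h := hh.1; inferInstance) (X := Y) (Y := Y') b π hπ hπs sV
      ((repWith_yon_map_iff _ D.tV).2 ⟨D.tV_closed, D.tV_surj⟩)
  have sU : IsPullback D.u' ((yon S).map D.fU') a π := by
    let g := pullback.lift D.u' ((yon S).map D.fU') ha
    have g1 : g ≫ pullback.fst a π = D.u' := pullback.lift_fst _ _ _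
    have g2 : g ≫ pullback.snd a π = (yon S).map D.fU' := pullback.lift_snd _ _ _
    have : Mono g := by
      refine Groth.Agent.AlgSp.mono_of_yon g fun T x y hxy => ?_
      obtain ⟨x, rfl⟩ := (yon S).map_surjective x
      obtain ⟨y, rfl⟩ := (yon S).map_surjective y
      have h1 : (yon S).map x ≫ D.u' = (yon S).map y ≫ D.u' := by rw [← g1, reassoc_of% hxy]
      have h2 : x ≫ D.fU' = y ≫ D.fU' := (yon S).map_injective (by
        rw [Functor.map_comp, Functor.map_comp, ← g2, reassoc_of% hxy])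
      let i := pullback.snd D.tU x
      have : Surjective i.left := MorphismProperty.of_isPullback (P := @Surjective)
        ((IsPullback.of_hasPullback D.tU x).map (Over.forget S)) D.tU_surj
      obtain ⟨c, hc⟩ := (yon S).map_surjective (D.sqU'.lift ((yon S).map (pullback.fst D.tU x) ≫ D.uX)
        ((yon S).map (i ≫ y)) (by
          rw [Category.assoc, D.sqU'.w, ← Functor.map_comp_assoc, pullback.condition, Functor.map_comp,
            Category.assoc, h1, ← Functor.map_comp_assoc]))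
      have c1 : c ≫ D.tU = i ≫ y := (yon S).map_injective (by rw [Functor.map_comp, hc, D.sqU'.lift_snd])
      have c2 : pullback.fst D.tU x = c := (yon S).map_injective (D.sqU.hom_ext
        (by rw [hc, D.sqU'.lift_fst])
        (by
          rw [← Functor.map_comp, ← Functor.map_comp]
          congr 1
          rw [← cancel_mono D.tV, Category.assoc, Category.assoc, ← D.po.w, reassoc_of% c1, ← h2,
            reassoc_of% pullback.condition]))
      rw [hom_ext_thick D.hu' i h1 (by rw [← c1, ← c2, pullback.condition])]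
    have : Sheaf.IsLocallySurjective g := by
      refine Groth.Agent.AlgSp.isLocallySurjective_of_fppf_lift g fun T z => ?_
      obtain ⟨p, hp⟩ := (yon S).map_surjective (z ≫ pullback.snd a π)
      obtain ⟨W, w, ρ, sW⟩ := Groth.Agent.AlgSpB.exists_pullback_yon D.hu'.1 (z ≫ pullback.fst a π)
      have : Etale ρ.left := D.hu'.2 _ _ _ sW
      obtain ⟨r, hr⟩ := (yon S).map_surjective (sq.lift ((yon S).map (ρ ≫ p)) ((yon S).map (w ≫ D.fU')) (by
        change (yon S).map (ρ ≫ p) ≫ π = (yon S).map (w ≫ D.fU') ≫ π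
        rw [Functor.map_comp, Category.assoc, hp, Category.assoc, ← pullback.condition,
          Functor.map_comp, Category.assoc, ← ha, reassoc_of% sW.w]))
      have r1 : r ≫ G.t' = ρ ≫ p := (yon S).map_injective (by rw [Functor.map_comp, hr, sq.lift_fst])
      have r2 : r ≫ G.s = w ≫ D.fU' := (yon S).map_injective (by rw [Functor.map_comp, hr, sq.lift_snd])
      obtain ⟨y, hy, hwy⟩ := G.hg W r w r2
      refine ⟨W, ρ, (yon S).map y, inferInstance, D.hu's.2 _ _ _ sW, inferInstance, pullback.hom_ext ?_ ?_⟩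
      · rw [Category.assoc, g1, ← hwy, sW.w, Category.assoc]
      · rw [Category.assoc, g2, ← Functor.map_comp, ← hy, r1, Functor.map_comp, hp, Category.assoc]
    have : Epi g := Sheaf.epi_of_isLocallySurjective g
    have : IsIso g := isIso_of_mono_of_epi g
    exact IsPullback.of_iso_pullback ⟨ha⟩ (asIso g) g1 g2
  refine ⟨Y', ObjectProperty.homMk a, ObjectProperty.homMk b, π, ⟨⟨ObjectProperty.hom_ext _ hw⟩, ⟨?_⟩⟩, hthick,
    hπ, hπs, sV, sU⟩
  have hdesc : ∀ c : PushoutCocone t f, ∃ γ : Y'.obj ⟶ c.pt.obj, a ≫ γ = c.inl.hom ∧ b ≫ γ = c.inr.hom := by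
    intro c
    have hc : t.hom ≫ c.inl.hom = f.hom ≫ c.inr.hom := congrArg (fun k => k.hom) c.condition
    have hpo := SchemePush.isPushout_ofScheme_of_thick D.po
    obtain ⟨γ₀, g1, g2⟩ := hpo.exists_desc (W := c.pt) (ObjectProperty.homMk (D.u' ≫ c.inl.hom))
      (ObjectProperty.homMk (D.v ≫ c.inr.hom)) (ObjectProperty.hom_ext _ (by
        change (yon S).map D.tU ≫ D.u' ≫ c.inl.hom = (yon S).map D.fU ≫ D.v ≫ c.inr.hom
        rw [← reassoc_of% D.sqU'.w, ← reassoc_of% D.sqU.w, hc]))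
    have g1' : (yon S).map D.fU' ≫ γ₀.hom = D.u' ≫ c.inl.hom := congrArg (fun k => k.hom) g1
    have g2' : (yon S).map D.tV ≫ γ₀.hom = D.v ≫ c.inr.hom := congrArg (fun k => k.hom) g2
    have hs : (yon S).map G.t' ≫ γ₀.hom = (yon S).map G.s ≫ γ₀.hom := by
      refine hom_ext_cover c.pt.property.diag G.s G.hs _ _ (fun T l x hl => ?_) (fun T l x hl => ?_)
      · rw [← show G.sρ.lift x l hl.symm ≫ G.ρ = l from G.sρ.lift_snd _ _ _, Functor.map_comp, Category.assoc,
          Category.assoc]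
        congr 1
        rw [← Functor.map_comp_assoc, ← Functor.map_comp_assoc, ← G.sρ.w, G.hρt, Functor.map_comp, Functor.map_comp,
          Category.assoc, Category.assoc, g2', reassoc_of% G.sR.w]
      · obtain ⟨y, hy, hxy⟩ := G.hg T l x hl
        rw [← Functor.map_comp_assoc, ← Functor.map_comp_assoc, hl, hy, Functor.map_comp, Functor.map_comp,
          Category.assoc, Category.assoc, g1', reassoc_of% hxy]
    obtain ⟨γ, hγ⟩ : ∃ γ : Y'.obj ⟶ c.pt.obj, π ≫ γ = γ₀.hom :=
      ⟨Cofork.IsColimit.desc cπ γ₀.hom hs, Cofork.IsColimit.π_desc' cπ γ₀.hom hs⟩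
    refine ⟨γ, ?_, ?_⟩
    · rw [← cancel_epi D.u', reassoc_of% ha, hγ, g1']
    · rw [← cancel_epi D.v, reassoc_of% hb, hγ, g2']
  choose γ hγ using hdesc
  refine PushoutCocone.IsColimit.mk _ (fun c => ObjectProperty.homMk (γ c))
    (fun c => ObjectProperty.hom_ext _ (hγ c).1) (fun c => ObjectProperty.hom_ext _ (hγ c).2)
    fun c m h1 h2 => ObjectProperty.hom_ext _ ?_
  have h1' : a ≫ m.hom = c.inl.hom := congrArg (fun k => k.hom) h1
  have h2' : b ≫ m.hom = c.inr.hom := congrArg (fun k => k.hom) h2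
  refine (cancel_epi π).1 (SchemePush.hom_ext_of_isPushout c.pt.property.diag D.po _ _ ?_ ?_)
  · rw [← reassoc_of% ha, ← reassoc_of% ha, h1']
    exact congrArg (D.u' ≫ ·) (hγ c).1.symm
  · rw [← reassoc_of% hb, ← reassoc_of% hb, h2']
    exact congrArg (D.v ≫ ·) (hγ c).2.symm

end Groth.Agent.AlgSpD.ThickPush
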