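import Groth.Agent.AlgSpD.ThickPush.Basic

/-!
# The relation on the pushout of an atlas
-/

universe u

open CategoryTheory CategoryTheory.Limits AlgebraicGeometry Opposite

set_option autoImplicit false
set_option backward.isDefEq.respectTransparency false
set_option backward.isDefEq.respectTransparency.types false

namespace Groth.Agent.AlgSpD.ThickPush

open _root_.AlgSp
open Groth.Agent.AlgSpD

variable {S : Scheme.{u}} {X X' Y : Space S} {t : X ⟶ X'} {f : X ⟶ Y}

/-- The relation on the pushout of the charts. -/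
structure Atlas.Rel (D : Atlas t f) where
  /-- the relation on `V` -/
  R : Over S
  /-- the relation on `P` -/
  R' : Over S
  /-- first projection -/
  π₁ : R ⟶ D.V
  /-- second projection -/
  π₂ : R ⟶ D.V
  /-- the inclusion -/
  ρ : R ⟶ R'
  /-- source -/
  s : R' ⟶ D.P
  /-- target -/
  t' : R' ⟶ D.P
  sR : IsPullback ((yon S).map π₁) ((yon S).map π₂) D.v D.v
  hs : Etale s.left
  sρ : IsPullback π₁ ρ D.tV s
  hρt : ρ ≫ t' = π₂ ≫ D.tV
  hk : ∀ (T : Over S) (a b : T ⟶ D.U'), (yon S).map a ≫ D.u' = (yon S).map b ≫ D.u' →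
    ∃ r : T ⟶ R', r ≫ s = a ≫ D.fU' ∧ r ≫ t' = b ≫ D.fU'
  hg : ∀ (T : Over S) (r : T ⟶ R') (a : T ⟶ D.U'), r ≫ s = a ≫ D.fU' →
    ∃ b : T ⟶ D.U', r ≫ t' = b ≫ D.fU' ∧ (yon S).map a ≫ D.u' = (yon S).map b ≫ D.u'

/-- The etale base changes of the pushout of the charts are pushouts. -/
theorem Atlas.etBC (D : Atlas t f) : SchemePush.EtBC D.tU D.fU D.fU' D.tV := by
  obtain ⟨-, ha⟩ := SchemePush.props_of_thick D.po
  exact SchemePush.etBC_of_cover SchemePush.cover_of_thick D.po

theorem Atlas.nonempty_rel (D : Atlas t f) : Nonempty D.Rel := by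
  obtain ⟨R, π₁, π₂, sR⟩ := Groth.Agent.AlgSpB.exists_pullback_yon D.hv.1 D.v
  have hπ₁ : Etale π₁.left := D.hv.2 _ _ _ sR.flip
  obtain ⟨R', s₀, ρ, hs₀, hρc, hρs, sρ₀⟩ := exists_descend_scheme
    (X := ⟨_, IsAlgSpace.yon_obj D.V⟩) (X' := ⟨_, IsAlgSpace.yon_obj D.P⟩) (ObjectProperty.homMk ((yon S).map D.tV))
    ((repWith_yon_map_iff thick D.tV).2 ⟨D.tV_closed, D.tV_surj⟩) ((yon S).map π₁)
    ((repWith_yon_map_iff _ π₁).2 hπ₁)
  obtain ⟨s, rfl⟩ := (yon S).map_surjective s₀
  have hs : Etale s.left := (repWith_yon_map_iff _ s).1 hs₀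
  have sρ₁ : IsPullback ((yon S).map π₁) ((yon S).map ρ) ((yon S).map D.tV) ((yon S).map s) := sρ₀
  have sρ : IsPullback π₁ ρ D.tV s := IsPullback.of_map (yon S)
    ((yon S).map_injective (by rw [Functor.map_comp, Functor.map_comp]; exact sρ₁.w)) sρ₁
  let RU := pullback D.fU' s
  let p : RU ⟶ D.U' := pullback.fst _ _
  let aV : RU ⟶ R' := pullback.snd _ _
  have sp : IsPullback p aV D.fU' s := IsPullback.of_hasPullback _ _
  let A := pullback D.tU p
  let aU : A ⟶ D.U := pullback.fst _ _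
  let iA : A ⟶ RU := pullback.snd _ _
  have sA : IsPullback aU iA D.tU p := IsPullback.of_hasPullback _ _
  have : IsClosedImmersion iA.left := MorphismProperty.of_isPullback (sA.map (Over.forget S)) D.tU_closed
  have : Surjective iA.left := MorphismProperty.of_isPullback (P := @Surjective) (sA.map (Over.forget S)) D.tU_surj
  let rA : A ⟶ R := sρ.lift (aU ≫ D.fU) (iA ≫ aV) (by
    rw [Category.assoc, ← D.po.w, ← Category.assoc, sA.w, Category.assoc, sp.w, Category.assoc])
  have rA1 : rA ≫ π₁ = aU ≫ D.fU := sρ.lift_fst _ _ _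
  have rA2 : rA ≫ ρ = iA ≫ aV := sρ.lift_snd _ _ _
  obtain ⟨m, hm⟩ := (yon S).map_surjective (D.sqU.lift ((yon S).map aU ≫ D.uX) ((yon S).map (rA ≫ π₂)) (by
    rw [Category.assoc, D.sqU.w, ← Category.assoc, ← Functor.map_comp, ← rA1, Functor.map_comp, Category.assoc, sR.w,
      Functor.map_comp, Category.assoc]))
  have hm1 : (yon S).map m ≫ D.uX = (yon S).map aU ≫ D.uX := by rw [hm, D.sqU.lift_fst]
  have hm2 : m ≫ D.fU = rA ≫ π₂ := (yon S).map_injective (by rw [Functor.map_comp, hm, D.sqU.lift_snd])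
  obtain ⟨g, hg1, hg2⟩ := exists_lift_thick D.hu' iA ((yon S).map p ≫ D.u') (m ≫ D.tU) (by
    rw [Functor.map_comp, Category.assoc, ← D.sqU'.w, reassoc_of% hm1, D.sqU'.w, ← Functor.map_comp_assoc, sA.w,
      Functor.map_comp, Category.assoc])
  have hsq : IsPushout iA rA aV ρ := D.etBC s hs p aV π₁ ρ aU iA rA sp sρ (sA.paste_vert sp)
    sA.w.symm rA1 rA2.symm
  let t' : R' ⟶ D.P := hsq.desc (g ≫ D.fU') (π₂ ≫ D.tV) (by
    rw [← Category.assoc iA, hg2, Category.assoc, D.po.w, ← Category.assoc m, hm2, Category.assoc])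
  have ht1 : aV ≫ t' = g ≫ D.fU' := hsq.inl_desc _ _ _
  have ht2 : ρ ≫ t' = π₂ ≫ D.tV := hsq.inr_desc _ _ _
  refine ⟨{ R := R, R' := R', π₁ := π₁, π₂ := π₂, ρ := ρ, s := s, t' := t', sR := sR, hs := hs, sρ := sρ,
            hρt := ht2, hk := fun T a b hab => ?_, hg := fun T r a h => ?_ }⟩
  · let A' := pullback D.tU a
    let cA : A' ⟶ D.U := pullback.fst _ _
    let i : A' ⟶ T := pullback.snd _ _
    have si : IsPullback cA i D.tU a := IsPullback.of_hasPullback _ _
    have : IsClosedImmersion i.left := MorphismProperty.of_isPullback (si.map (Over.forget S)) D.tU_closed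
    have : Surjective i.left := MorphismProperty.of_isPullback (P := @Surjective) (si.map (Over.forget S)) D.tU_surj
    obtain ⟨cB, hcB⟩ := (yon S).map_surjective (D.sqU'.lift ((yon S).map cA ≫ D.uX) ((yon S).map (i ≫ b)) (by
      rw [Category.assoc, D.sqU'.w, ← Functor.map_comp_assoc, si.w, Functor.map_comp, Category.assoc, hab,
        ← Functor.map_comp_assoc]))
    have hB1 : (yon S).map cB ≫ D.uX = (yon S).map cA ≫ D.uX := by rw [hcB, D.sqU'.lift_fst]
    have hB2 : cB ≫ D.tU = i ≫ b := (yon S).map_injective (by rw [Functor.map_comp, hcB, D.sqU'.lift_snd])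
    obtain ⟨r', hr'⟩ := (yon S).map_surjective (sR.lift ((yon S).map (cA ≫ D.fU)) ((yon S).map (cB ≫ D.fU)) (by
      rw [Functor.map_comp, Category.assoc, ← D.sqU.w, Functor.map_comp, Category.assoc, ← D.sqU.w,
        ← Category.assoc, ← hB1, Category.assoc]))
    have r1 : r' ≫ π₁ = cA ≫ D.fU := (yon S).map_injective (by rw [Functor.map_comp, hr', sR.lift_fst])
    have r2 : r' ≫ π₂ = cB ≫ D.fU := (yon S).map_injective (by rw [Functor.map_comp, hr', sR.lift_snd])
    obtain ⟨r, hr1, hr2⟩ := exists_lift_thick ((repWith_yon_map_iff _ s).2 hs) i ((yon S).map (a ≫ D.fU'))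
      (r' ≫ ρ) (by
        rw [← Functor.map_comp, ← Functor.map_comp]
        congr 1
        rw [Category.assoc, ← sρ.w, reassoc_of% r1, ← D.po.w, reassoc_of% si.w])
    rw [← Functor.map_comp] at hr1
    have hrs : r ≫ s = a ≫ D.fU' := (yon S).map_injective hr1
    let k : T ⟶ RU := pullback.lift a r hrs.symm
    have k1 : k ≫ p = a := pullback.lift_fst _ _ _
    have k2 : k ≫ aV = r := pullback.lift_snd _ _ _
    let l : A' ⟶ A := sA.lift cA (i ≫ k) (by rw [Category.assoc, k1, si.w])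
    have l1 : l ≫ aU = cA := sA.lift_fst _ _ _
    have l2 : l ≫ iA = i ≫ k := sA.lift_snd _ _ _
    have hlr : l ≫ rA = r' := sρ.hom_ext (by rw [Category.assoc, rA1, reassoc_of% l1, r1])
      (by rw [Category.assoc, rA2, reassoc_of% l2, k2, hr2])
    have hlm : l ≫ m = cB := (yon S).map_injective (D.sqU.hom_ext
      (by rw [Functor.map_comp, Category.assoc, hm1, ← Functor.map_comp_assoc, l1, hB1])
      (by rw [← Functor.map_comp, ← Functor.map_comp, Category.assoc, hm2, reassoc_of% hlr, r2]))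
    have hkg : k ≫ g = b := hom_ext_thick D.hu' i
      (by rw [Functor.map_comp, Category.assoc, hg1, ← Functor.map_comp_assoc, k1, hab])
      (by rw [← reassoc_of% l2, hg2, reassoc_of% hlm, hB2])
    refine ⟨r, hrs, ?_⟩
    rw [← k2, Category.assoc, ht1, reassoc_of% hkg]
  · let k : T ⟶ RU := pullback.lift a r h.symm
    have k1 : k ≫ p = a := pullback.lift_fst _ _ _
    have k2 : k ≫ aV = r := pullback.lift_snd _ _ _
    refine ⟨k ≫ g, by rw [← k2, Category.assoc, ht1, Category.assoc], ?_⟩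
    rw [Functor.map_comp, Category.assoc, hg1, ← Functor.map_comp_assoc, k1]

end Groth.Agent.AlgSpD.ThickPush
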