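import Groth.Agent.AlgSpD.ThickPush.Quot
import Groth.Agent.AlgSpD.ThickPush.Pieces
import Groth.Agent.AlgSpCov.Listed
import Groth.Agent.AlgSpCov.LocPBasic

/-!
# Morphisms between pushouts of thickenings of algebraic spaces
-/

universe u

open CategoryTheory CategoryTheory.Limits AlgebraicGeometry Opposite

set_option autoImplicit false
set_option backward.isDefEq.respectTransparency false
set_option backward.isDefEq.respectTransparency.types false

namespace Groth.Agent.AlgSpD.ThickPush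

open _root_.AlgSp
open Groth.Agent.AlgSpD
open Groth.Agent.PinchLib (toSh)

variable {S : Scheme.{u}}

/-- The atlas of the pushout. -/
theorem Atlas.exists_chart {X X' Y Y' : Space S} {t : X ⟶ X'} {f : X ⟶ Y} (D : Atlas t f) {f' : X' ⟶ Y'}
    {t' : Y ⟶ Y'} (hY' : IsPushout t f f' t') :
    ∃ π : (yon S).obj D.P ⟶ Y'.obj, RepWith @Etale π ∧ RepWith @Surjective π ∧
      IsPullback D.v ((yon S).map D.tV) t'.hom π ∧ IsPullback D.u' ((yon S).map D.fU') f'.hom π := by
  obtain ⟨G⟩ := D.nonempty_rel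
  obtain ⟨Y₀, f₀, t₀, π, h₀, -, hπ, hπs, sV, sU⟩ := G.exists_isPushout
  let e := h₀.isoIsPushout _ _ hY'
  let e' : Y₀.obj ≅ Y'.obj := (ObjectProperty.ι _).mapIso e
  have e1 : f₀.hom ≫ e'.hom = f'.hom := congrArg (fun k => k.hom) (h₀.inl_isoIsPushout_hom _ _ hY')
  have e2 : t₀.hom ≫ e'.hom = t'.hom := congrArg (fun k => k.hom) (h₀.inr_isoIsPushout_hom _ _ hY')
  exact ⟨π ≫ e'.hom, (MorphismProperty.cancel_right_of_respectsIso _ _ _).2 hπ,
    (MorphismProperty.cancel_right_of_respectsIso _ _ _).2 hπs,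
    sV.of_iso (Iso.refl _) (Iso.refl _) (Iso.refl _) e' (by simp) (by simp) (by simp [e2]) (by simp),
    sU.of_iso (Iso.refl _) (Iso.refl _) (Iso.refl _) e' (by simp) (by simp) (by simp [e1]) (by simp)⟩

/-- The scheme pushout of an atlas is a pushout of ringed spaces. -/
theorem Atlas.isPushout_toSh {X X' Y : Space S} {t : X ⟶ X'} {f : X ⟶ Y} (D : Atlas t f) :
    IsPushout (toSh.map D.tU.left) (toSh.map D.fU.left) (toSh.map D.fU'.left) (toSh.map D.tV.left) :=
  Groth.Agent.PinchLib.StdRinged.isPushout_toSh SchemePush.cover_of_thick (D.po.map (Over.forget S))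

theorem Atlas.isAffineHom_fU' {X X' Y : Space S} {t : X ⟶ X'} {f : X ⟶ Y} (D : Atlas t f) :
    IsAffineHom D.fU'.left := (SchemePush.props_of_thick D.po).2

/-- Compatible charts of a map between pushouts. -/
structure Charts {X X' Y Y' U U' V V' : Space S} (t : X ⟶ X') (f : X ⟶ Y) (f' : X' ⟶ Y') (t' : Y ⟶ Y')
    (v : V ⟶ Y) (u' : U' ⟶ X') (uV : U ⟶ V) (uU' : U ⟶ U') (iV : V ⟶ V') (iU' : U' ⟶ V') (v' : V' ⟶ Y') where
  /-- the atlas downstairs -/
  D : Atlas t f
  /-- the atlas upstairs -/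
  E : Atlas uU' uV
  /-- map on the charts of `Y` -/
  gV : E.V ⟶ D.V
  /-- map on the charts of `X` -/
  gU : E.U ⟶ D.U
  /-- map on the charts of `X'` -/
  gU' : E.U' ⟶ D.U'
  /-- map on the pushouts -/
  h : E.P ⟶ D.P
  /-- chart of `Y'` -/
  π : (yon S).obj D.P ⟶ Y'.obj
  /-- chart of `V'` -/
  ρ : (yon S).obj E.P ⟶ V'.obj
  hπ : RepWith @Etale π
  hπs : RepWith @Surjective π
  hρ : RepWith @Etale ρ
  hρs : RepWith @Surjective ρ
  sV : IsPullback D.v ((yon S).map D.tV) t'.hom π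
  sU : IsPullback D.u' ((yon S).map D.fU') f'.hom π
  sEV : IsPullback E.v ((yon S).map E.tV) iV.hom ρ
  sEU : IsPullback E.u' ((yon S).map E.fU') iU'.hom ρ
  eV : E.v ≫ v.hom = (yon S).map gV ≫ D.v
  eU' : E.u' ≫ u'.hom = (yon S).map gU' ≫ D.u'
  eh : ρ ≫ v'.hom = (yon S).map h ≫ π
  hX : IsPullback E.tU.left gU.left gU'.left D.tU.left
  hY : IsPullback E.fU.left gU.left gV.left D.fU.left
  ha : E.fU'.left ≫ h.left = gU'.left ≫ D.fU'.left
  hb : E.tV.left ≫ h.left = gV.left ≫ D.tV.left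

theorem nonempty_charts {X X' Y Y' U U' V V' : Space S}
    (t : X ⟶ X') (ht : IsThickMor t.hom) (f : X ⟶ Y) (hf : IsAffineMor f.hom) (f' : X' ⟶ Y')
    (t' : Y ⟶ Y') (hY' : IsPushout t f f' t') (v : V ⟶ Y) (u' : U' ⟶ X') (uV : U ⟶ V) (uU' : U ⟶ U')
    (uX : U ⟶ X) (hUV : IsPullback uV.hom uX.hom v.hom f.hom) (hUU' : IsPullback uU'.hom uX.hom u'.hom t.hom)
    (iV : V ⟶ V') (iU' : U' ⟶ V') (hV' : IsPushout uV uU' iV iU') (v' : V' ⟶ Y')
    (hv'₁ : iV ≫ v' = v ≫ t') (hv'₂ : iU' ≫ v' = u' ≫ f') :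
    Nonempty (Charts t f f' t' v u' uV uU' iV iU' v') := by
  have ht' : IsThickMor uU'.hom := MorphismProperty.of_isPullback (P := RepWith thick) hUU'.flip ht
  have hf' : IsAffineMor uV.hom := (Groth.Agent.AlgSp.isAffineMor_iff _).2
    (MorphismProperty.of_isPullback hUV.flip ((Groth.Agent.AlgSp.isAffineMor_iff _).1 hf))
  obtain ⟨D⟩ := exists_atlas t ht f hf
  obtain ⟨V₀, v₀, hv₀, hv₀s⟩ := V.property.atlas
  obtain ⟨W, gV, q, sW⟩ := Groth.Agent.AlgSpB.exists_pullback_yon D.hv.1 (v₀ ≫ v.hom)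
  have hq : RepWith @Etale ((yon S).map q) := (repWith_yon_map_iff _ q).2 (D.hv.2 _ _ _ sW)
  have hqs : RepWith @Surjective ((yon S).map q) := (repWith_yon_map_iff _ q).2 (D.hvs.2 _ _ _ sW)
  obtain ⟨E, rfl, hE⟩ := exists_atlas_of_chart uU' ht' uV hf' ((yon S).map q ≫ v₀)
    (MorphismProperty.comp_mem _ _ _ hq hv₀) (MorphismProperty.comp_mem _ _ _ hqs hv₀s)
  rw [eqToHom_refl, CategoryTheory.Functor.map_id, Category.id_comp] at hE
  have eV : E.v ≫ v.hom = (yon S).map gV ≫ D.v := by rw [hE, Category.assoc, ← sW.w]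
  obtain ⟨gU, hgU⟩ := (yon S).map_surjective (D.sqU.lift (E.uX ≫ uX.hom) ((yon S).map (E.fU ≫ gV)) (by
    rw [Category.assoc, ← hUV.w, reassoc_of% E.sqU.w, eV, Functor.map_comp, Category.assoc]))
  have gU1 : (yon S).map gU ≫ D.uX = E.uX ≫ uX.hom := by rw [hgU, D.sqU.lift_fst]
  have gU2 : gU ≫ D.fU = E.fU ≫ gV := (yon S).map_injective (by rw [Functor.map_comp, hgU, D.sqU.lift_snd])
  obtain ⟨gU', eU', gU'1⟩ := exists_lift_thick D.hu' E.tU (E.u' ≫ u'.hom) (gU ≫ D.tU) (by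
    rw [Functor.map_comp, Category.assoc, ← D.sqU'.w, reassoc_of% gU1, ← hUU'.w, reassoc_of% E.sqU'.w])
  have hw : E.tU ≫ gU' ≫ D.fU' = E.fU ≫ gV ≫ D.tV := by
    rw [reassoc_of% gU'1, D.po.w, reassoc_of% gU2]
  let h : E.P ⟶ D.P := E.po.desc (gU' ≫ D.fU') (gV ≫ D.tV) hw
  have ha : E.fU' ≫ h = gU' ≫ D.fU' := E.po.inl_desc _ _ _
  have hb : E.tV ≫ h = gV ≫ D.tV := E.po.inr_desc _ _ _
  obtain ⟨π, hπ, hπs, sV, sU⟩ := D.exists_chart hY'
  obtain ⟨ρ, hρ, hρs, sEV, sEU⟩ := E.exists_chart hV'.flip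
  have eh : ρ ≫ v'.hom = (yon S).map h ≫ π := by
    refine SchemePush.hom_ext_of_isPushout Y'.property.diag E.po _ _ ?_ ?_
    · rw [← reassoc_of% sEU.w, ← Functor.map_comp_assoc, ha, Functor.map_comp, Category.assoc, ← sU.w,
        reassoc_of% eU']
      exact congrArg (E.u' ≫ ·) (congrArg (fun k => k.hom) hv'₂)
    · rw [← reassoc_of% sEV.w, ← Functor.map_comp_assoc, hb, Functor.map_comp, Category.assoc, ← sV.w,
        ← reassoc_of% eV]
      exact congrArg (E.v ≫ ·) (congrArg (fun k => k.hom) hv'₁)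
  have hY : IsPullback ((yon S).map E.fU) ((yon S).map gU) ((yon S).map gV) ((yon S).map D.fU) := by
    refine IsPullback.of_bot ?_ (by rw [← Functor.map_comp, ← Functor.map_comp, gU2]) D.sqU.flip
    rw [gU1, ← eV]
    exact E.sqU.flip.paste_vert hUV
  have hX : IsPullback ((yon S).map E.tU) ((yon S).map gU) ((yon S).map gU') ((yon S).map D.tU) := by
    refine IsPullback.of_bot ?_ (by rw [← Functor.map_comp, ← Functor.map_comp, gU'1]) D.sqU'.flip
    rw [gU1, eU']
    exact E.sqU'.flip.paste_vert hUU'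
  exact ⟨{
    D := D, E := E, gV := gV, gU := gU, gU' := gU', h := h, π := π, ρ := ρ, hπ := hπ, hπs := hπs, hρ := hρ
    hρs := hρs, sV := sV, sU := sU, sEV := sEV, sEU := sEU, eV := eV, eU' := eU'.symm, eh := eh
    hX := (IsPullback.of_map (yon S) gU'1 hX).map (Over.forget S)
    hY := (IsPullback.of_map (yon S) gU2.symm hY).map (Over.forget S)
    ha := congrArg CommaMorphism.left ha, hb := congrArg CommaMorphism.left hb }⟩

/-- A map whose base change along an etale surjection is an isomorphism is an isomorphism. -/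
theorem isIso_of_isPullback_id {A V B : Sp S} {e : A ⟶ V} {k : V ⟶ B} {q : A ⟶ B}
    (sq : IsPullback e (𝟙 A) k q) (hq : RepWith @Etale q) (hqs : RepWith @Surjective q) : IsIso k := by
  have := Groth.Agent.AlgSp.isLocallySurjective_of_etale_surjective q hq hqs
  have : Epi q := Sheaf.epi_of_isLocallySurjective q
  have he : e ≫ k = q := sq.w.trans (Category.id_comp q)
  have : Epi (e ≫ k) := he ▸ ‹Epi q›
  have : Epi k := epi_of_epi e k
  have : Mono k := Groth.Agent.AlgSp.mono_of_yon k fun T a b hab => by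
    let p := pullback.snd q (a ≫ k)
    have := Groth.Agent.AlgSp.isLocallySurjective_of_etale_surjective p
      (MorphismProperty.of_isPullback (IsPullback.of_hasPullback q (a ≫ k)) hq)
      (MorphismProperty.of_isPullback (IsPullback.of_hasPullback q (a ≫ k)) hqs)
    have : Epi p := Sheaf.epi_of_isLocallySurjective p
    have hl : pullback.fst q (a ≫ k) ≫ q = p ≫ a ≫ k := pullback.condition
    obtain ⟨la, la1, la2⟩ := sq.exists_lift (p ≫ a) (pullback.fst q (a ≫ k)) (by rw [Category.assoc, hl])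
    obtain ⟨lb, lb1, lb2⟩ := sq.exists_lift (p ≫ b) (pullback.fst q (a ≫ k)) (by rw [Category.assoc, ← hab, hl])
    rw [Category.comp_id] at la2 lb2
    rw [← cancel_epi p, ← la1, ← lb1, la2, lb2]
  exact isIso_of_mono_of_epi k

/-- Cartesian squares descend along charts. -/
theorem isPullback_descend {A A' V V' Y Y' : Sp S} {e : A ⟶ V} {a : A ⟶ A'} {iV : V ⟶ V'} {ρ : A' ⟶ V'}
    {v : V ⟶ Y} {t' : Y ⟶ Y'} {v' : V' ⟶ Y'} (hρ : RepWith @Etale ρ) (hρs : RepWith @Surjective ρ)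
    (sE : IsPullback e a iV ρ) (w : iV ≫ v' = v ≫ t') (big : IsPullback (e ≫ v) a t' (ρ ≫ v')) :
    IsPullback iV v v' t' := by
  let k : V ⟶ pullback v' t' := pullback.lift iV v w
  have k1 : k ≫ pullback.fst v' t' = iV := pullback.lift_fst _ _ _
  have k2 : k ≫ pullback.snd v' t' = v := pullback.lift_snd _ _ _
  have sQ : IsPullback a (e ≫ k) ρ (pullback.fst v' t') := by
    refine IsPullback.of_bot ?_ (by rw [Category.assoc, k1, sE.w]) (IsPullback.of_hasPullback v' t')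
    rw [Category.assoc, k2]
    exact big.flip
  have s1 : IsPullback e (𝟙 A) k (e ≫ k) := by
    refine IsPullback.of_bot ?_ (by simp) sQ.flip
    rw [Category.id_comp, k1]
    exact sE
  have : IsIso k := isIso_of_isPullback_id s1 (MorphismProperty.of_isPullback sQ hρ)
    (MorphismProperty.of_isPullback sQ hρs)
  exact IsPullback.of_iso_pullback ⟨w⟩ (asIso k) k1 k2

variable {X X' Y Y' U U' V V' : Space S} {t : X ⟶ X'} {f : X ⟶ Y} {f' : X' ⟶ Y'} {t' : Y ⟶ Y'}
  {v : V ⟶ Y} {u' : U' ⟶ X'} {uV : U ⟶ V} {uU' : U ⟶ U'} {iV : V ⟶ V'} {iU' : U' ⟶ V'} {v' : V' ⟶ Y'}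
  (C : Charts t f f' t' v u' uV uU' iV iU' v')

include C in
/-- Both sides are cartesian. -/
theorem Charts.isPullback_sides (hv'₁ : iV ≫ v' = v ≫ t') (hv'₂ : iU' ≫ v' = u' ≫ f') :
    IsPullback iV.hom v.hom v'.hom t'.hom ∧ IsPullback iU'.hom u'.hom v'.hom f'.hom := by
  have := C.D.isAffineHom_fU'
  have := C.E.isAffineHom_fU'
  have s1 := isPullback_inr C.D.isPushout_toSh C.E.isPushout_toSh C.hX C.hY C.ha C.hb
  have s2 := isPullback_inl C.D.isPushout_toSh C.E.isPushout_toSh C.hX C.hY C.ha C.hb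
  have S1 : IsPullback C.gV C.E.tV C.D.tV C.h :=
    IsPullback.of_map (Over.forget S) (Over.OverMorphism.ext C.hb.symm) s1.flip
  have S2 : IsPullback C.gU' C.E.fU' C.D.fU' C.h :=
    IsPullback.of_map (Over.forget S) (Over.OverMorphism.ext C.ha.symm) s2.flip
  refine ⟨isPullback_descend C.hρ C.hρs C.sEV (congrArg (fun k => k.hom) hv'₁) ?_,
    isPullback_descend C.hρ C.hρs C.sEU (congrArg (fun k => k.hom) hv'₂) ?_⟩
  · rw [C.eV, C.eh]
    exact (S1.map (yon S)).paste_horiz C.sV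
  · rw [C.eU', C.eh]
    exact (S2.map (yon S)).paste_horiz C.sU

variable {P : MorphismProperty Scheme.{u}}

theorem Charts.locP_v'_iff (hP : Groth.Agent.AlgSpCov.Standard P) : LocP P v'.hom ↔ P C.h.left :=
  ⟨fun H => H C.ρ C.π C.h C.hρ C.hπ C.eh, fun H =>
    have := hP.bc; have := hP.comp
    Groth.Agent.AlgSpCov.locP_of_one_chart hP.etaleLocal hP.of_etale Y'.property C.hρ C.hρs C.hπ C.eh H⟩

theorem Charts.locP_v_iff (hP : Groth.Agent.AlgSpCov.Standard P) : LocP P v.hom ↔ P C.gV.left :=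
  ⟨fun H => H C.E.v C.D.v C.gV C.E.hv C.D.hv C.eV, fun H =>
    have := hP.bc; have := hP.comp
    Groth.Agent.AlgSpCov.locP_of_one_chart hP.etaleLocal hP.of_etale Y.property C.E.hv C.E.hvs C.D.hv C.eV H⟩

theorem Charts.locP_u'_iff (hP : Groth.Agent.AlgSpCov.Standard P) : LocP P u'.hom ↔ P C.gU'.left :=
  ⟨fun H => H C.E.u' C.D.u' C.gU' C.E.hu' C.D.hu' C.eU', fun H =>
    have := hP.bc; have := hP.comp
    Groth.Agent.AlgSpCov.locP_of_one_chart hP.etaleLocal hP.of_etale X'.property C.E.hu' C.E.hu's C.D.hu' C.eU' H⟩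

open Groth.Agent.AlgSpCov in
include C in
theorem Charts.properties :
    (LocP @LocallyOfFiniteType v'.hom ↔ LocP @LocallyOfFiniteType v.hom ∧ LocP @LocallyOfFiniteType u'.hom) ∧
    (LocP @Flat v'.hom ↔ LocP @Flat v.hom ∧ LocP @Flat u'.hom) ∧
    ((LocP @Flat v'.hom ∧ LocP @LocallyOfFinitePresentation v'.hom) ↔
      (LocP @Flat v.hom ∧ LocP @LocallyOfFinitePresentation v.hom) ∧
        (LocP @Flat u'.hom ∧ LocP @LocallyOfFinitePresentation u'.hom)) ∧
    (LocP @Smooth v'.hom ↔ LocP @Smooth v.hom ∧ LocP @Smooth u'.hom) ∧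
    (IsEtaleMor v'.hom ↔ IsEtaleMor v.hom ∧ IsEtaleMor u'.hom) := by
  have := C.D.isAffineHom_fU'
  have := C.E.isAffineHom_fU'
  have hD := C.D.isPushout_toSh
  have hE := C.E.isPushout_toSh
  refine ⟨?_, ?_, ?_, ?_, ?_⟩
  · rw [C.locP_v'_iff standard_locallyOfFiniteType, C.locP_v_iff standard_locallyOfFiniteType,
      C.locP_u'_iff standard_locallyOfFiniteType]
    exact lft_iff hD hE C.hX C.hY C.ha C.hb
  · rw [C.locP_v'_iff standard_flat, C.locP_v_iff standard_flat, C.locP_u'_iff standard_flat]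
    exact flat_iff hD hE C.hX C.hY C.ha C.hb
  · rw [C.locP_v'_iff standard_flat, C.locP_v_iff standard_flat, C.locP_u'_iff standard_flat,
      C.locP_v'_iff standard_locallyOfFinitePresentation, C.locP_v_iff standard_locallyOfFinitePresentation,
      C.locP_u'_iff standard_locallyOfFinitePresentation]
    exact flat_lfp_iff hD hE C.hX C.hY C.ha C.hb
  · rw [C.locP_v'_iff standard_smooth, C.locP_v_iff standard_smooth, C.locP_u'_iff standard_smooth]
    exact smooth_iff hD hE C.hX C.hY C.ha C.hb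
  · rw [isEtaleMor_iff_locP_etale V'.property Y'.property, isEtaleMor_iff_locP_etale V.property Y.property,
      isEtaleMor_iff_locP_etale U'.property X'.property,
      C.locP_v'_iff standard_etale, C.locP_v_iff standard_etale, C.locP_u'_iff standard_etale]
    exact etale_iff hD hE C.hX C.hY C.ha C.hb

end Groth.Agent.AlgSpD.ThickPush
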